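import Cfsg.Agent.H24.M12.Cls

/-!
# Powers of the representatives of the classes of `2.M₁₂` (helper24)
-/

set_option autoImplicit false
set_option maxRecDepth 100000

namespace Cfsg.Agent.H24.M12

open Cfsg Cfsg.Agent.H932.Mt

/-- orders of the representatives -/
def po (k : ℕ) : ℕ := [1, 2, 3, 3, 4, 4, 4, 5, 6, 8, 8, 11, 11, 12, 20].getD k 1

/-- repeated word -/
def rpt : ℕ → List ℕ → List ℕ
  | 0, _ => []
  | n + 1, w => w ++ rpt n w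

/-- `(k, m, c)` : `c` conjugates `rp k` to its `m`-th power -/
def PT : List (ℕ × ℕ × List ℕ) := [
  (0, 0, []),
  (1, 1, []),
  (2, 1, []),
  (2, 2, [1]),
  (3, 1, []),
  (3, 2, [0, 1, 0, 0, 1, 2, 2, 1, 2]),
  (4, 1, []),
  (4, 3, [0, 0, 1, 0, 1, 0, 1, 0, 1, 0, 1, 2]),
  (5, 1, []),
  (5, 3, [2, 1, 2, 2, 1, 0, 0, 1, 0]),
  (6, 1, []),
  (6, 3, [2, 2, 1, 0, 0, 1, 2, 2, 1, 0, 0]),
  (7, 1, []),
  (7, 2, [1, 2, 1, 2, 2, 2, 1, 0, 0, 1, 0, 0, 1, 0]),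
  (7, 3, [2, 1, 2, 2, 1, 2, 2, 1, 0, 0, 0, 1, 0, 1]),
  (7, 4, [0, 1, 0, 0, 0, 1, 0, 0, 0, 1, 0, 1, 0, 0]),
  (8, 1, []),
  (8, 5, [1, 0, 1, 0, 0, 1, 2, 2, 1, 2, 1]),
  (9, 1, []),
  (9, 3, [1, 0, 0, 1, 2, 2, 1]),
  (10, 1, []),
  (10, 3, [1, 2, 2, 2, 1, 0, 0, 0, 1]),
  (11, 1, []),
  (11, 3, [1, 2, 1, 0, 0, 0, 1, 2, 2, 2, 1, 2, 2, 2, 1, 0, 0, 1]),
  (11, 4, [1, 0, 1, 0, 1, 2, 2, 1, 2, 1, 2, 2, 2, 1, 0, 1, 0, 1]),
  (11, 5, [1, 2, 1, 0, 0, 0, 1, 2, 2, 1, 2, 2, 1, 0, 0, 1]),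
  (11, 9, [1, 2, 2, 1, 0, 0, 0, 1, 0, 1, 2, 2, 1, 0, 0, 1]),
  (12, 1, []),
  (12, 3, [1, 2, 1, 0, 0, 0, 1, 2, 2, 2, 1, 2, 2, 2, 1, 0, 0, 1]),
  (12, 4, [1, 0, 1, 0, 1, 2, 2, 1, 2, 1, 2, 2, 2, 1, 0, 1, 0, 1]),
  (12, 5, [1, 2, 1, 0, 0, 0, 1, 2, 2, 1, 2, 2, 1, 0, 0, 1]),
  (12, 9, [1, 2, 2, 1, 0, 0, 0, 1, 0, 1, 2, 2, 1, 0, 0, 1]),
  (13, 1, []),
  (13, 5, [0, 1, 0, 1, 2, 2, 1, 2, 2, 1, 2, 2, 1, 0, 1, 0, 1]),
  (13, 7, [1, 2, 1, 0, 0, 1, 2, 2, 2, 1, 2, 1, 0, 1, 0]),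
  (13, 11, [1, 0, 1, 2, 1, 2, 2, 1, 0, 0, 0, 0, 0, 1, 0]),
  (14, 1, []),
  (14, 3, [0, 0, 0, 0, 1, 0, 1, 0, 0, 1, 0, 1, 0, 1, 2]),
  (14, 7, [0, 1, 2, 1, 2, 1, 2, 2, 1, 2, 1, 2, 2, 2, 2]),
  (14, 9, [0, 0, 0, 1, 0, 0, 0, 0, 1, 0, 0, 0, 0])]

/-- `(k, c)` : `c` conjugates `rp k` to its negative -/
def NT : List (ℕ × List ℕ) := [
  (4, [0, 0, 1, 0, 1, 0, 1, 0, 1, 0, 1, 2]),
  (5, [0, 0, 1, 0, 0, 0, 0, 1, 0, 1, 0, 0, 1, 0]),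
  (6, [1, 0, 1, 0, 1, 2, 2, 2, 1, 2, 1, 2, 1, 0]),
  (13, [1, 2, 1, 0, 0, 1, 2, 2, 2, 1, 2, 1, 0, 1, 0])]

theorem PT_ok : (PT.all fun e => eqw (e.2.2 ++ RW e.1) (rpt e.2.1 (RW e.1) ++ e.2.2)) = true := by decide +kernel

theorem NT_ok : (NT.all fun e => eqw (e.2 ++ RW e.1) (nw ++ (RW e.1 ++ e.2))) = true := by decide +kernel

theorem po_ok : ∀ k : Fin 15, (eqw (rpt (po k.1) (RW k.1)) [] &&
    allB (fun m => Nat.beq m 0 || !(eqw (rpt m (RW k.1)) [])) (po k.1)) = true := by decide +kernel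

theorem el_rpt (n : ℕ) (w : List ℕ) : el (rpt n w) = el w ^ n := by
  induction n with
  | zero => rw [pow_zero]; rfl
  | succ n ih => rw [rpt, el_append, ih, pow_succ']

theorem eqw_of_el {u w : List ℕ} (h : el u = el w) : eqw u w = true := by
  have h1 : ∀ n, n ≤ 12 → allB (fun i => Nat.beq (aw u (2 * i)) (aw w (2 * i))) n = true := by
    intro n
    induction n with
    | zero => intro _; rfl
    | succ n ih =>
      intro hn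
      rw [allB, Bool.and_eq_true]
      refine ⟨?_, ih (by omega)⟩
      have e1 := el_val u ⟨2 * n, by omega⟩
      have e2 := el_val w ⟨2 * n, by omega⟩
      rw [h, e2] at e1
      change aw w (2 * n) = aw u (2 * n) at e1
      rw [e1]
      exact Nat.beq_refl _
  exact h1 12 le_rfl

theorem order_rp (k : Fin 15) : orderOf (rp k.1) = po k.1 := by
  have h := po_ok k
  rw [Bool.and_eq_true] at h
  have hpos : 0 < po k.1 := by revert k; decide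
  rw [orderOf_eq_iff hpos]
  constructor
  · have h1 := el_eq h.1
    rwa [el_rpt, el_nil] at h1
  · intro m hm hm0 h1
    have h2 := allB_spec h.2 m hm
    rw [Bool.or_eq_true] at h2
    rcases h2 with h2 | h2
    · exact absurd (Nat.eq_of_beq_eq_true h2) hm0.ne'
    · have h3 : eqw (rpt m (RW k.1)) [] = true := eqw_of_el (by rw [el_rpt, el_nil]; exact h1)
      rw [h3] at h2
      exact absurd h2 (by decide)

/-- the table contains `(k, m)` -/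
def pc (k m : ℕ) : Bool := PT.any fun e => Nat.beq e.1 k && Nat.beq e.2.1 m

theorem pc_spec {k m : ℕ} (h : pc k m = true) : IsConj (rp k) (rp k ^ m) := by
  obtain ⟨e, he, h1⟩ := List.any_eq_true.1 h
  rw [Bool.and_eq_true] at h1
  have e1 := Nat.eq_of_beq_eq_true h1.1
  have e2 := Nat.eq_of_beq_eq_true h1.2
  subst e1 e2
  have h2 := el_eq (List.all_eq_true.1 PT_ok e he)
  rw [el_append, el_append, el_rpt] at h2
  refine isConj_iff.2 ⟨el e.2.2, ?_⟩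
  change el e.2.2 * el (RW e.1) * (el e.2.2)⁻¹ = el (RW e.1) ^ e.2.1
  rw [h2, mul_inv_cancel_right]

theorem neg_conj {k : ℕ} (h : k = 4 ∨ k = 5 ∨ k = 6 ∨ k = 13) : IsConj (rp k) (neg * rp k) := by
  have h1 : (NT.any fun e => Nat.beq e.1 k) = true := by
    rcases h with rfl | rfl | rfl | rfl <;> decide
  obtain ⟨e, he, h2⟩ := List.any_eq_true.1 h1
  have e1 := Nat.eq_of_beq_eq_true h2
  subst e1
  have h3 := el_eq (List.all_eq_true.1 NT_ok e he)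
  rw [el_append, el_append, el_append, el_nw] at h3
  refine isConj_iff.2 ⟨el e.2, ?_⟩
  change el e.2 * el (RW e.1) * (el e.2)⁻¹ = neg * el (RW e.1)
  rw [h3, ← mul_assoc, mul_inv_cancel_right]

/-- the classes of elements conjugate to all their powers of the same order -/
def rat (k : ℕ) : Bool := !([9, 10, 11, 12, 14].contains k)

theorem pc_table : ∀ k : Fin 15, ∀ m : Fin 20, m.1 < po k.1 → Nat.gcd m.1 (po k.1) = 1 →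
    ((rat k.1 = true → pc k.1 m.1 = true) ∧
    ((k.1 = 9 ∨ k.1 = 10) → (m.1 = 1 ∨ m.1 = 3 → pc k.1 m.1 = true) ∧ (m.1 = 5 ∨ m.1 = 7 → pc k.1 (8 - m.1) = true)) ∧
    ((k.1 = 11 ∨ k.1 = 12 ∨ k.1 = 14) → (pc k.1 m.1 = true ∨ pc k.1 (po k.1 - m.1) = true)) ∧
    ((k.1 = 11 ∨ k.1 = 12 ∨ k.1 = 14) → m.1 = 3 → pc k.1 m.1 = true)) := by
  decide +kernel

end Cfsg.Agent.H24.M12
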