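import Cfsg.Agent.H24.M12.Stab
import Cfsg.Agent.H24.M12.Pow

/-!
# Representations of `2.M₁₂` in characteristic 3: degree at least 5 and not 8 (helper24)
-/

set_option autoImplicit false
set_option linter.unusedSectionVars false
set_option maxRecDepth 100000

namespace Cfsg.Agent.H24.M12

open Module LinearMap Cfsg.Agent.H6.M11 Cfsg.Agent.H932.Mt

variable {k : Type*} [Field k] {V : Type*} [AddCommGroup V] [Module k V] [FiniteDimensional k V] {ζ ξ : k}

/-! ### cosets of the stabilizer -/

theorem rows_x : ∀ j : Fin 12, j ≠ 0 → ∃ i : Fin 11, lp (el (rpt i.1 (LW 5)) * Cfsg.Agent.H932.Mt.rep 1) 0 = j := by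
  decide +kernel

theorem mem_or_of_row {g : Γ} (h : lp g 0 = 0) : g ∈ H0 ∨ neg * g ∈ H0 := by
  have h4 : g.1.1 (pos 0) = pos 0 ∨ g.1.1 (pos 0) = ng (pos 0) := by
    have h5 := eq_pos_or (g.1.1 (pos 0))
    rwa [show idx (g.1.1 (pos 0)) = 0 from h] at h5
  rcases h4 with h4 | h4
  · exact Or.inl h4
  · right
    rw [mem_H0]
    change neg.1.1 (g.1.1 (pos 0)) = pos 0
    rw [h4, Cfsg.Agent.H932.Mt.neg_apply, ng_ng]

theorem coset (g : Γ) : (g ∈ H0 ∨ neg * g ∈ H0) ∨ ∃ i : ℕ, ∃ h ∈ H0, g = vG 5 ^ i * Cfsg.Agent.H932.Mt.rep 1 * h ∨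
    g = neg * (vG 5 ^ i * Cfsg.Agent.H932.Mt.rep 1 * h) := by
  by_cases h0 : lp g 0 = 0
  · exact Or.inl (mem_or_of_row h0)
  · right
    obtain ⟨i, hi⟩ := rows_x _ h0
    rw [el_rpt] at hi
    change lp (vG 5 ^ i.1 * Cfsg.Agent.H932.Mt.rep 1) 0 = lp g 0 at hi
    have h1 : lp ((vG 5 ^ i.1 * Cfsg.Agent.H932.Mt.rep 1)⁻¹ * g) 0 = 0 := by
      rw [lp_mul, ← hi, ← lp_mul, inv_mul_cancel]
      change idx (pos 0) = 0
      rw [idx_pos]
    rcases mem_or_of_row h1 with h2 | h2
    · exact ⟨i, _, h2, Or.inl (by rw [mul_inv_cancel_left])⟩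
    · refine ⟨i, _, h2, Or.inr ?_⟩
      have hnn := neg_mul_neg'
      have hc := neg_comm (vG 5 ^ i.1 * Cfsg.Agent.H932.Mt.rep 1)
      calc g = neg * neg * g := by rw [hnn, one_mul]
        _ = neg * (neg * ((vG 5 ^ i.1 * Cfsg.Agent.H932.Mt.rep 1) *
            ((vG 5 ^ i.1 * Cfsg.Agent.H932.Mt.rep 1)⁻¹ * g))) := by rw [mul_inv_cancel_left, mul_assoc]
        _ = _ := by rw [← mul_assoc neg (vG 5 ^ i.1 * Cfsg.Agent.H932.Mt.rep 1), hc, mul_assoc, ]

/-! ### representations of the stabilizer -/

theorem five_trivial (hζ : IsPrimitiveRoot ζ 11) {R : H0 →* End k V} (hn : finrank k V < 5) :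
    op v0 R [5] = 1 := by
  obtain ⟨m, a, b, ha, hb, hm, hdim⟩ := sat_0.toL.eigen (R := R) hζ ⊤ (fun _ _ => trivial) (fun _ _ => trivial)
  rw [finrank_top] at hdim
  have h4 : (⊤ : Submodule k V) ≤ End.eigenspace (op v0 R [5]) 1 := le_of_finrank (by
    rw [hm, finrank_top, hdim]; omega)
  ext u
  have h5 := h4 (Submodule.mem_top (x := u))
  rw [End.mem_eigenspace_iff, one_smul] at h5
  exact h5

theorem trivial_of_op {R : H0 →* End k V} (h : op v0 R [5] = 1) (g : H0) : R g = 1 := by
  refine trivial_of_five R ?_ g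
  rw [← h, op, ev_cons, ev_nil, mul_one]

/-- a fixed vector or a fixed functional -/
theorem fix_or (h3 : (3 : k) = 0) (hζ : IsPrimitiveRoot ζ 11) (hξ : IsPrimitiveRoot ξ 5) (R : H0 →* End k V)
    (hn : finrank k V = 8) :
    (∃ v : V, v ≠ 0 ∧ ∀ g, R g v = v) ∨ ∃ φ : V →ₗ[k] k, φ ≠ 0 ∧ ∀ g v, φ (R g v) = φ v := by
  have : Nontrivial V := Module.nontrivial_of_finrank_pos (R := k) (by omega)
  obtain ⟨U, ⟨hU0, hU⟩, hmin⟩ := (wellFounded_lt (α := Submodule k V)).has_min
    {S : Submodule k V | S ≠ ⊥ ∧ ∀ g : H0, ∀ u ∈ S, R g u ∈ S} ⟨⊤, top_ne_bot, fun _ _ _ => trivial⟩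
  -- the restriction
  let RU : H0 →* End k U :=
    { toFun := fun g => (R g).restrict (hU g)
      map_one' := by
        ext u
        change R 1 (u : V) = u
        rw [map_one]
        rfl
      map_mul' := by
        intro a b
        ext u
        change R (a * b) (u : V) = R a (R b u)
        rw [map_mul]
        rfl }
  have hRU : ∀ g (u : U), ((RU g u : U) : V) = R g u := fun _ _ => rfl
  by_cases h5 : op v0 RU [5] = 1
  · left
    obtain ⟨u, hu, hu0⟩ := (Submodule.ne_bot_iff _).1 hU0
    refine ⟨u, hu0, fun g => ?_⟩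
    rw [← hRU g ⟨u, hu⟩, trivial_of_op h5 g]
    rfl
  · right
    have hn5 : 5 ≤ finrank k U := by
      by_contra hc
      exact h5 (five_trivial hζ (by omega))
    have hn8 : finrank k U ≤ 8 := by rw [← hn]; exact Submodule.finrank_le U
    have irr : Irr v0 RU := by
      intro S s5 s8
      have e5 : (ev v0 [5]) ^ (10 + 1) = 1 := sat_0.toL.ev_pow.1
      have e8 : (ev v0 [8]) ^ (1 + 1) = 1 := by
        have h1 : ev v0 [8, 8] = ev v0 [] := sat_0.base (by decide +kernel)
        rw [ev_nil] at h1
        rw [← h1]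
        simp only [ev_cons, ev_nil, mul_one]
        simp only [pow_succ, pow_zero, one_mul]
      have h1 : stabS RU S = ⊤ := by
        rw [eq_top_iff, ← closure_0, Subgroup.closure_le]
        rintro g (rfl | hg)
        · exact mem_stabS s5 e5
        · rw [Set.mem_singleton_iff.1 hg]
          exact mem_stabS s8 e8
      by_cases hS : S = ⊥
      · exact Or.inl hS
      · right
        have h2 := hmin (S.map U.subtype) ⟨?_, ?_⟩
        · have h3' : S.map U.subtype ≤ U := Submodule.map_subtype_le U S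
          have h4 : S.map U.subtype = U := by
            by_contra hne
            exact h2 (lt_of_le_of_ne h3' hne)
          apply Submodule.map_injective_of_injective (f := U.subtype) U.injective_subtype
          rw [h4, Submodule.map_subtype_top]
        · intro h0
          apply hS
          apply Submodule.map_injective_of_injective (f := U.subtype) U.injective_subtype
          rw [h0, Submodule.map_bot]
        · rintro g _ ⟨u, hu, rfl⟩
          have hg : g ∈ stabS RU S := by rw [h1]; trivial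
          exact ⟨RU g u, hg.1 u hu, rfl⟩
    have hdim := sat_0.dim_three (R := RU) h3 hζ hξ irr h5 (by omega) (by omega)
    have hU5 : finrank k U = 5 := by omega
    -- the quotient
    let RQ : H0 →* End k (V ⧸ U) :=
      { toFun := fun g => U.mapQ U (R g) (fun u hu => hU g u hu)
        map_one' := by
          ext u
          change Submodule.Quotient.mk (R 1 u) = Submodule.Quotient.mk u
          rw [map_one]
          rfl
        map_mul' := by
          intro a b
          ext u
          change Submodule.Quotient.mk (R (a * b) u) = Submodule.Quotient.mk (R a (R b u))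
          rw [map_mul]
          rfl }
    have hq : finrank k (V ⧸ U) < 5 := by
      have h1 := Submodule.finrank_quotient_add_finrank U
      omega
    have htr := fun g => trivial_of_op (five_trivial hζ (R := RQ) hq) g
    have hlt : U < ⊤ := by
      rw [lt_top_iff_ne_top]
      intro h
      rw [h, finrank_top] at hU5
      omega
    obtain ⟨φ, hφ0, hφ⟩ := Submodule.exists_le_ker_of_lt_top U hlt
    refine ⟨φ, hφ0, fun g u => ?_⟩
    have h1 : (Submodule.Quotient.mk (R g u) : V ⧸ U) = Submodule.Quotient.mk u := by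
      change RQ g (Submodule.Quotient.mk u) = _
      rw [htr g]
      rfl
    rw [Submodule.Quotient.eq] at h1
    have h2 := hφ h1
    rw [LinearMap.mem_ker, map_sub, sub_eq_zero] at h2
    exact h2

/-- **degree at least 5 and not 8** -/
theorem dim_ne_eight (h3 : (3 : k) = 0) (hζ : IsPrimitiveRoot ζ 11) (hξ : IsPrimitiveRoot ξ 5) {R : Γ →* End k V}
    (hneg : R neg = -1) (irr : ∀ S : Submodule k V, (∀ g, ∀ u ∈ S, R g u ∈ S) → S = ⊥ ∨ S = ⊤)
    (hX : op vG R [5] ≠ 1) : 5 ≤ finrank k V ∧ finrank k V ≠ 8 := by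
  have hX11 : (op vG R [5]) ^ 11 = 1 := sat_G.toL.pow_eleven
  have h11k := eleven_ne_of3 h3
  obtain ⟨m, a, b, ha, hb, hm, hdim⟩ := sat_G.toL.eigen (R := R) hζ ⊤ (fun _ _ => trivial) (fun _ _ => trivial)
  rw [finrank_top] at hdim
  have hab : 0 < a + b := by
    by_contra hcon
    apply hX
    have h4 : (⊤ : Submodule k V) ≤ End.eigenspace (op vG R [5]) 1 := le_of_finrank (by
      rw [hm, finrank_top, hdim]; omega)
    ext u
    have h5 := h4 (Submodule.mem_top (x := u))
    rw [End.mem_eigenspace_iff, one_smul] at h5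
    exact h5
  refine ⟨by omega, fun h8 => ?_⟩
  have hm3 : m = 3 := by omega
  have hop : op vG R [5] = R (vG 5) := by rw [op, ev_cons, ev_nil, mul_one]
  have hpow : ∀ i : ℕ, R (vG 5 ^ i) = (op vG R [5]) ^ i := fun i => by rw [map_pow, hop]
  rcases fix_or h3 hζ hξ (R.comp H0.subtype) h8 with ⟨v, hv0, hv⟩ | ⟨φ, hφ0, hφ⟩
  · -- a fixed vector
    have hfix : ∀ g ∈ H0, R g v = v := fun g hg => hv ⟨g, hg⟩
    have h5v : op vG R [5] v = v := by rw [hop]; exact hfix _ (vG_mem 5)
    have hall : ∀ g : Γ, R g v ∈ spanO (op vG R [5]) v (R (Cfsg.Agent.H932.Mt.rep 1) v) := by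
      intro g
      rcases coset g with (h | h) | ⟨i, h, hh, he | he⟩
      · rw [hfix g h]; exact x0_mem
      · have h1 := hfix _ h
        rw [map_mul, hneg, neg_mul, one_mul, LinearMap.neg_apply, neg_eq_iff_eq_neg] at h1
        rw [h1]
        exact Submodule.neg_mem _ x0_mem
      · rw [he, map_mul, map_mul, Module.End.mul_apply, Module.End.mul_apply, hfix h hh, hpow]
        exact u_mem i
      · rw [he, map_mul, map_mul, map_mul, hneg, neg_mul, one_mul, LinearMap.neg_apply, Module.End.mul_apply,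
          Module.End.mul_apply, hfix h hh, hpow]
        exact Submodule.neg_mem _ (u_mem i)
    have hspan : Submodule.span k (Set.range fun g : Γ => R g v) = ⊤ := by
      refine (irr _ ?_).resolve_left ?_
      · intro g u hu
        induction hu using Submodule.span_induction with
        | mem u hu =>
          obtain ⟨g', rfl⟩ := hu
          refine Submodule.subset_span ⟨g * g', ?_⟩
          change R (g * g') v = R g (R g' v)
          rw [map_mul]
          rfl
        | zero => rw [map_zero]; exact Submodule.zero_mem _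
        | add x y _ _ hx hy => rw [map_add]; exact Submodule.add_mem _ hx hy
        | smul c x _ hx => rw [map_smul]; exact Submodule.smul_mem _ _ hx
      · intro h
        apply hv0
        have h1 : v ∈ Submodule.span k (Set.range fun g : Γ => R g v) :=
          Submodule.subset_span ⟨1, by change R 1 v = v; rw [map_one]; rfl⟩
        rwa [h, Submodule.mem_bot] at h1
    have htop : spanO (op vG R [5]) v (R (Cfsg.Agent.H932.Mt.rep 1) v) = ⊤ := by
      rw [eq_top_iff, ← hspan, Submodule.span_le]
      rintro _ ⟨g, rfl⟩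
      exact hall g
    have h1 := finrank_fix_le (u := R (Cfsg.Agent.H932.Mt.rep 1) v) h11k hX11 h5v
    rw [htop, hm] at h1
    omega
  · -- a fixed functional
    have hfix : ∀ g ∈ H0, ∀ u, φ (R g u) = φ u := fun g hg u => hφ ⟨g, hg⟩ u
    let N : Submodule k V :=
      { carrier := {u | ∀ g : Γ, φ (R g u) = 0}
        zero_mem' := fun g => by rw [map_zero, map_zero]
        add_mem' := by
          intro x y hx hy g
          rw [map_add, map_add, hx g, hy g, add_zero]
        smul_mem' := by
          intro c x hx g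
          rw [map_smul, map_smul, hx g, smul_zero] }
    have hN : N = ⊥ := by
      refine (irr N ?_).resolve_right ?_
      · intro g u hu g'
        have h1 := hu (g' * g)
        rwa [map_mul] at h1
      · intro h
        apply hφ0
        ext u
        have h1 : u ∈ N := by rw [h]; trivial
        have h2 := h1 1
        rw [map_one] at h2
        exact h2
    let f : V →ₗ[k] k × k := φ.prod (φ.comp (R (Cfsg.Agent.H932.Mt.rep 1)⁻¹))
    have hinj : ∀ u ∈ (⊤ ⊓ End.eigenspace (op vG R [5]) 1 : Submodule k V), f u = 0 → u = 0 := by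
      intro u hu hf
      obtain ⟨-, hu1⟩ := Submodule.mem_inf.1 hu
      rw [End.mem_eigenspace_iff, one_smul] at hu1
      have f1 : φ u = 0 := congrArg Prod.fst hf
      have f2 : φ (R (Cfsg.Agent.H932.Mt.rep 1)⁻¹ u) = 0 := congrArg Prod.snd hf
      have hXi : ∀ i : ℕ, R (vG 5 ^ i)⁻¹ u = u := by
        intro i
        have h1 : R (vG 5 ^ i) u = u := by rw [hpow]; exact pow_fix hu1 i
        calc R (vG 5 ^ i)⁻¹ u = R (vG 5 ^ i)⁻¹ (R (vG 5 ^ i) u) := by rw [h1]
          _ = R ((vG 5 ^ i)⁻¹ * vG 5 ^ i) u := by rw [map_mul]; rfl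
          _ = u := by rw [inv_mul_cancel, map_one]; rfl
      have hmem : u ∈ N := by
        intro g
        have hnn : neg⁻¹ = neg := inv_eq_of_mul_eq_one_left neg_mul_neg'
        rcases coset g⁻¹ with (h | h) | ⟨i, h, hh, he | he⟩
        · rw [hfix g (by simpa using H0.inv_mem h)]; exact f1
        · have h1 := H0.inv_mem h
          rw [mul_inv_rev, inv_inv, hnn, ← neg_comm] at h1
          have h2 := hfix _ h1 u
          rw [map_mul, hneg, neg_mul, one_mul, LinearMap.neg_apply, map_neg, f1, neg_eq_zero] at h2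
          exact h2
        · have h1 : g = h⁻¹ * ((Cfsg.Agent.H932.Mt.rep 1)⁻¹ * (vG 5 ^ i)⁻¹) := by
            rw [← inv_inv g, he, mul_inv_rev, mul_inv_rev]
          rw [h1, map_mul, Module.End.mul_apply, hfix _ (H0.inv_mem hh), map_mul, Module.End.mul_apply, hXi]
          exact f2
        · have h1 : g = neg * (h⁻¹ * ((Cfsg.Agent.H932.Mt.rep 1)⁻¹ * (vG 5 ^ i)⁻¹)) := by
            rw [← inv_inv g, he, mul_inv_rev, hnn, ← neg_comm, mul_inv_rev, mul_inv_rev]
          rw [h1, map_mul, hneg, neg_mul, one_mul, LinearMap.neg_apply, map_neg, map_mul, Module.End.mul_apply,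
            hfix _ (H0.inv_mem hh), map_mul, Module.End.mul_apply, hXi, f2, neg_zero]
      rwa [hN, Submodule.mem_bot] at hmem
    have h1 : finrank k (⊤ ⊓ End.eigenspace (op vG R [5]) 1 : Submodule k V) ≤ finrank k (k × k) := by
      refine LinearMap.finrank_le_finrank_of_injective
        (f := f.domRestrict (⊤ ⊓ End.eigenspace (op vG R [5]) 1 : Submodule k V)) ?_
      rw [← LinearMap.ker_eq_bot, LinearMap.ker_eq_bot']
      intro u hu
      apply Subtype.ext
      exact hinj u u.2 hu
    rw [hm, Module.finrank_prod, Module.finrank_self] at h1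
    omega

end Cfsg.Agent.H24.M12
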