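import Cfsg.Agent.H24.M12.Pow

/-!
# Class functions on `2.M₁₂` and Frobenius (helper24)
-/

set_option autoImplicit false
set_option maxRecDepth 100000

namespace Cfsg.Agent.H24.M12

open Cfsg Cfsg.Agent.H932.Mt

variable {F : Type*} [Field F] {χ : Γ → F} {p : ℕ}

theorem po_pos : ∀ k : Fin 15, 0 < po k.1 := by decide

theorem po_le : ∀ k : Fin 15, po k.1 ≤ 20 := by decide

theorem rat_inv : ∀ k : Fin 15, rat k.1 = true → pc k.1 (po k.1 - 1) = true := by decide +kernel

theorem not_rat : ∀ k : Fin 15, ¬ rat k.1 = true → k.1 = 9 ∨ k.1 = 10 ∨ k.1 = 11 ∨ k.1 = 12 ∨ k.1 = 14 := by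
  decide +kernel

/-- the two possibilities for the `p`-th power of a representative -/
theorem rep_pow (hc : ∀ a b, IsConj a b → χ a = χ b) (hp : p.Prime)
    (hpow : ∀ a, χ (a ^ p) = χ a ^ p)
    (hn : ∀ a, χ (neg * a) = -χ a)
    (h11 : p = 3 ∨ ∀ k, (k = 11 ∨ k = 12) → χ (rp k)⁻¹ = χ (rp k))
    (h20 : p = 3 ∨ p = 5 ∨ χ (rp 14) = 0)
    (k : Fin 15) (hk : ¬ p ∣ po k.1) :
    (p % 8 = 1 ∨ p % 8 = 3 → χ (rp k.1) ^ p = χ (rp k.1)) ∧
      (p % 8 = 5 ∨ p % 8 = 7 → χ (rp k.1) ^ p = χ (rp k.1)⁻¹) := by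
  have hpos : 0 < po k.1 := po_pos k
  have hle : po k.1 ≤ 20 := po_le k
  have hm : p % po k.1 < po k.1 := Nat.mod_lt _ hpos
  have hg : Nat.gcd (p % po k.1) (po k.1) = 1 := by
    rw [← Nat.gcd_rec, Nat.gcd_comm]
    exact (Nat.Prime.coprime_iff_not_dvd hp).2 hk
  obtain ⟨t1, t2, t3, t4⟩ := pc_table k ⟨p % po k.1, by omega⟩ hm hg
  dsimp only at t1 t2 t3 t4
  have hred : rp k.1 ^ p = rp k.1 ^ (p % po k.1) := by
    rw [← order_rp k, pow_mod_orderOf]
  have hinv : ∀ m, m ≤ po k.1 → rp k.1 ^ (po k.1 - m) = (rp k.1 ^ m)⁻¹ := by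
    intro m hm
    rw [eq_inv_iff_mul_eq_one, ← pow_add, Nat.sub_add_cancel hm, ← order_rp k, pow_orderOf_eq_one]
  have c1 : pc k.1 (p % po k.1) = true → χ (rp k.1) ^ p = χ (rp k.1) := by
    intro h
    rw [← hpow, hred]
    exact (hc _ _ (pc_spec h)).symm
  have c2 : pc k.1 (po k.1 - p % po k.1) = true → χ (rp k.1) ^ p = χ (rp k.1)⁻¹ := by
    intro h
    have h1 := pc_spec h
    rw [hinv _ hm.le] at h1
    have h2 : IsConj (rp k.1)⁻¹ (rp k.1 ^ (p % po k.1)) := by
      obtain ⟨c, hc'⟩ := isConj_iff.1 h1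
      refine isConj_iff.2 ⟨c, ?_⟩
      rw [← inv_inj, ← hc']
      group
    rw [← hpow, hred]
    exact (hc _ _ h2).symm
  by_cases hrat : rat k.1 = true
  · have h1 := c1 (t1 hrat)
    refine ⟨fun _ => h1, fun _ => ?_⟩
    rw [h1]
    -- the representative is conjugate to its inverse
    have h2 : pc k.1 (po k.1 - 1) = true := rat_inv k hrat
    have h3 := pc_spec h2
    rw [hinv 1 (by omega), pow_one] at h3
    exact hc _ _ h3
  · have hk5 : k.1 = 9 ∨ k.1 = 10 ∨ k.1 = 11 ∨ k.1 = 12 ∨ k.1 = 14 := not_rat k hrat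
    by_cases h8 : k.1 = 9 ∨ k.1 = 10
    · have ho : po k.1 = 8 := by rcases h8 with h | h <;> rw [h] <;> rfl
      obtain ⟨t5, t6⟩ := t2 h8
      constructor
      · intro h
        exact c1 (t5 (by rw [ho]; exact h))
      · intro h
        exact c2 (by rw [ho]; rw [ho] at t6; exact t6 h)
    · have hk3 : k.1 = 11 ∨ k.1 = 12 ∨ k.1 = 14 := by omega
      by_cases hp3 : p = 3
      · subst hp3
        have h1 := c1 (t4 hk3 (by rcases hk3 with h | h | h <;> rw [h] <;> rfl))
        exact ⟨fun _ => h1, fun h => absurd h (by norm_num)⟩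
      · -- here the value is real
        have hreal : χ (rp k.1)⁻¹ = χ (rp k.1) := by
          rcases h11 with h | h
          · exact absurd h hp3
          · by_cases h14 : k.1 = 14
            · rw [h14]
              rcases h20 with h' | h' | h'
              · exact absurd h' hp3
              · exfalso
                apply hk
                rw [h14, h']
                decide
              · rw [h']
                have h3 : pc 14 9 = true := by decide +kernel
                -- `rp 14 ^ 10 = -1`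
                have h4 : rp 14 ^ 10 = neg := by
                  have h5 : eqw (rpt 10 (RW 14)) nw = true := by decide +kernel
                  have h6 := el_eq h5
                  rw [el_rpt, el_nw] at h6
                  exact h6
                have h7 : (rp 14)⁻¹ = neg * rp 14 ^ 9 := by
                  have h8 : neg⁻¹ = neg := inv_eq_of_mul_eq_one_left neg_mul_neg'
                  rw [inv_eq_iff_mul_eq_one, ← mul_assoc, ← neg_comm, mul_assoc, ← pow_succ', h4, neg_mul_neg']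
                rw [h7, hn, ← hc _ _ (pc_spec h3), h', neg_zero]
            · exact h k.1 (by omega)
        rw [hreal]
        rw [hreal] at c2
        have h1 : χ (rp k.1) ^ p = χ (rp k.1) := by
          rcases t3 hk3 with h | h
          · exact c1 h
          · exact c2 h
        exact ⟨fun _ => h1, fun _ => h1⟩

/-- **Frobenius on class functions** -/
theorem frob (hc : ∀ a b, IsConj a b → χ a = χ b) (hp : p.Prime) (hp2 : p ≠ 2)
    (hpow : ∀ a, χ (a ^ p) = χ a ^ p)
    (hn : ∀ a, χ (neg * a) = -χ a)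
    (h11 : p = 3 ∨ ∀ k, (k = 11 ∨ k = 12) → χ (rp k)⁻¹ = χ (rp k))
    (h20 : p = 3 ∨ p = 5 ∨ χ (rp 14) = 0) {g : Γ} (hg : ¬ p ∣ orderOf g) :
    (p % 8 = 1 ∨ p % 8 = 3 → χ g ^ p = χ g) ∧ (p % 8 = 5 ∨ p % 8 = 7 → χ g ^ p = χ g⁻¹) := by
  have hodd : Odd p := hp.odd_of_ne_two hp2
  obtain ⟨k, hk⟩ := classes g
  -- the order
  have hconj2 : IsConj (g ^ 2) (rp k.1 ^ 2) := by
    rcases hk with hk | hk
    · exact hk.pow 2
    · have h1 := hk.pow 2
      have h2 : (neg * rp k.1) ^ 2 = rp k.1 ^ 2 := by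
        rw [(show Commute neg (rp k.1) from neg_comm _).mul_pow, pow_two neg, neg_mul_neg', one_mul]
      rwa [h2] at h1
  have hord : ¬ p ∣ po k.1 := by
    intro h
    apply hg
    have h1 : orderOf (g ^ 2) = orderOf (rp k.1 ^ 2) := by
      obtain ⟨c, hc'⟩ := isConj_iff.1 hconj2
      rw [← hc', ← MulAut.conj_apply]
      exact (MulEquiv.orderOf_eq (MulAut.conj c) (g ^ 2)).symm
    have h2 : p ∣ orderOf (rp k.1 ^ 2) := by
      have h3 : orderOf (rp k.1) ∣ 2 * orderOf (rp k.1 ^ 2) := by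
        apply orderOf_dvd_of_pow_eq_one
        rw [pow_mul, pow_orderOf_eq_one]
      rw [order_rp] at h3
      rcases (Nat.Prime.dvd_mul hp).1 (h.trans h3) with h4 | h4
      · exact absurd ((Nat.prime_dvd_prime_iff_eq hp Nat.prime_two).1 h4) hp2
      · exact h4
    rw [← h1] at h2
    exact h2.trans (orderOf_pow_dvd 2)
  obtain ⟨r1, r2⟩ := rep_pow hc hp hpow hn h11 h20 k hord
  have hinvc : ∀ {a b : Γ}, IsConj a b → IsConj a⁻¹ b⁻¹ := by
    intro a b h
    obtain ⟨c, hc'⟩ := isConj_iff.1 h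
    refine isConj_iff.2 ⟨c, ?_⟩
    rw [← hc']
    group
  rcases hk with hk | hk
  · rw [hc _ _ hk, hc _ _ (hinvc hk)]
    exact ⟨r1, r2⟩
  · rw [hc _ _ hk, hc _ _ (hinvc hk)]
    have h8 : neg⁻¹ = neg := inv_eq_of_mul_eq_one_left neg_mul_neg'
    have h9 : (neg * rp k.1)⁻¹ = neg * (rp k.1)⁻¹ := by
      rw [mul_inv_rev, h8, neg_comm]
    rw [h9, hn, hn, hodd.neg_pow]
    exact ⟨fun h => by rw [r1 h], fun h => by rw [r2 h]⟩

end Cfsg.Agent.H24.M12
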