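import Cfsg.Agent.H24.M12.Twenty
import Cfsg.Agent.H24.M12.Eight
import Cfsg.Agent.H24.M12.Frob
import Cfsg.Agent.H932.MtCov

/-!
# The double cover of `M₁₂` in degree at most 11 (helper24)
-/

set_option autoImplicit false
set_option linter.unusedSectionVars false
set_option maxRecDepth 100000

namespace Cfsg.Agent.H24.M12

open Cfsg Cfsg.Geo Matrix Module Cfsg.Agent.H6.M11 Cfsg.Agent.H932.Mt Cfsg.Agent.H915.LD

universe u

variable {ι : Type} [Fintype ι] [DecidableEq ι] {F : Type u} [Field F] {P : Subgroup (GL ι F)}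

/-- the words conjugating the order 11 and order 20 elements to the representatives -/
def W11c : List ℕ := [3, 0, 0, 3, 0, 3, 0, 0, 0, 3, 0, 0, 0]
def W20c : List ℕ := [2, 2, 2, 3, 2, 2, 2, 3, 2, 3, 2, 3, 2]

theorem conj_eleven : IsConj (vG 5) (rp 11) := by
  have h : eqw (W11c ++ LW 5) (RW 11 ++ W11c) = true := by decide +kernel
  have h1 := el_eq h
  rw [el_append, el_append] at h1
  refine isConj_iff.2 ⟨el W11c, ?_⟩
  change el W11c * el (LW 5) * (el W11c)⁻¹ = el (RW 11)
  rw [h1, mul_inv_cancel_right]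

theorem conj_twenty : IsConj (el W20) (rp 14) := by
  have h : eqw (W20c ++ W20) (RW 14 ++ W20c) = true := by decide +kernel
  have h1 := el_eq h
  rw [el_append, el_append] at h1
  refine isConj_iff.2 ⟨el W20c, ?_⟩
  change el W20c * el W20 * (el W20c)⁻¹ = el (RW 14)
  rw [h1, mul_inv_cancel_right]

theorem rp_twelve : rp 12 = (rp 11)⁻¹ := by
  have h : eqw (RW 12 ++ RW 11) [] = true := by decide +kernel
  have h1 := el_eq h
  rw [el_append, el_nil] at h1
  exact eq_inv_of_mul_eq_one_left h1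

section

variable (hC : Core P) (e : Soc P ≃* Spor.M12) {φ : Γ →* P} (hφ : Function.Surjective φ)
  (hφe : ∀ x, e (toSoc P (φ x)) = sig x)

include e hφ hφe

theorem neg_mem : φ neg ∈ (scalars ι F).subgroupOf P := by
  rw [← ker_toSoc, MonoidHom.mem_ker, ← map_eq_one_iff e e.injective, hφe, sig_neg]

theorem phi_neg_ne (hZ : (scalars ι F).subgroupOf P ≠ ⊥) : φ neg ≠ 1 := by
  intro h
  apply hZ
  rw [Subgroup.eq_bot_iff_forall]
  intro z hz
  obtain ⟨x, rfl⟩ := hφ z
  rw [← ker_toSoc, MonoidHom.mem_ker, ← map_eq_one_iff e e.injective, hφe] at hz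
  rcases eq_of_sig hz with h1 | h1
  · rw [h1, map_one]
  · rw [h1, h]

theorem phi_injective (hZ : (scalars ι F).subgroupOf P ≠ ⊥) : Function.Injective φ := by
  rw [injective_iff_map_eq_one]
  intro x hx
  have h1 : sig x = 1 := by rw [← hφe, hx, map_one, map_one]
  rcases eq_of_sig h1 with h2 | h2
  · exact h2
  · exfalso
    apply phi_neg_ne e hφ hφe hZ
    rw [← h2, hx]

theorem phi_neg (hZ : (scalars ι F).subgroupOf P ≠ ⊥) :
    ((φ neg : GL ι F) : Matrix ι ι F) = (-1 : F) • (1 : Matrix ι ι F) := by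
  have h1 := neg_mem e hφ hφe
  rw [Subgroup.mem_subgroupOf, mem_scalars_iff] at h1
  obtain ⟨c, hc⟩ := h1
  have h2 : φ neg * φ neg = 1 := by rw [← map_mul, neg_mul_neg', map_one]
  have h3 : ((φ neg : GL ι F) : Matrix ι ι F) * ((φ neg : GL ι F) : Matrix ι ι F) = 1 := by
    rw [← Units.val_mul, ← Subgroup.coe_mul, h2]
    rfl
  have hne : Nonempty ι := by
    by_contra hc'
    rw [not_nonempty_iff] at hc'
    apply phi_neg_ne e hφ hφe hZ
    apply Subtype.ext
    apply Units.ext
    ext i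
    exact isEmptyElim i
  obtain ⟨i⟩ := hne
  have h4 : (c : F) * c = 1 := by
    rw [hc, Matrix.smul_mul, Matrix.mul_smul, smul_smul, mul_one] at h3
    have h5 := congrFun (congrFun h3 i) i
    simpa using h5
  have h5 : (c : F) = 1 ∨ (c : F) = -1 := mul_self_eq_one_iff.1 h4
  rcases h5 with h5 | h5
  · exfalso
    apply phi_neg_ne e hφ hφe hZ
    apply Subtype.ext
    apply Units.ext
    rw [hc, h5, one_smul]
    rfl
  · rw [hc, h5]

end

/-- **The double cover of `M₁₂` in degree at most 11.** -/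
theorem two_m12 [Finite F] {p : ℕ} [hp : Fact p.Prime] [CharP F p] (hC : Core P) (h : Spor.IsoM12 (Soc P)) (hp2 : p ≠ 2)
    (hZ : (scalars ι F).subgroupOf P ≠ ⊥) (hn : Fintype.card ι ≤ 11) :
    (p = 3 ∧ (Fintype.card ι = 6 ∨ Fintype.card ι = 10) ∧ Fr P 3) ∨
      (p ≠ 3 ∧ Fintype.card ι = 10 ∧ (((p % 8 = 1 ∨ p % 8 = 3) ∧ Fr P p) ∨ ((p % 8 = 5 ∨ p % 8 = 7) ∧ Cj P p))) := by
  obtain ⟨e⟩ := h
  obtain ⟨φ, hφ, hφe⟩ := exists_cover hC e
  have hinj := phi_injective e hφ hφe hZ
  have hneg := phi_neg e hφ hφe hZ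
  have h2F : (2 : F) ≠ 0 := by
    intro h0
    have h1 : ((2 : ℕ) : F) = 0 := by exact_mod_cast h0
    rw [CharP.cast_eq_zero_iff F p] at h1
    exact hp2 ((Nat.prime_dvd_prime_iff_eq hp.out Nat.prime_two).1 h1)
  -- the degree is even
  have heven : Even (Fintype.card ι) := by
    have h1 := hC.scalar_pow (φ neg).2 hneg
    by_contra hodd
    rw [Nat.not_even_iff_odd] at hodd
    rw [hodd.neg_one_pow] at h1
    apply h2F
    linear_combination -h1
  -- the class function
  let χ : Γ → F := fun g => tr ((φ g : P) : GL ι F)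
  have hχc : ∀ a b, IsConj a b → χ a = χ b := fun a b hab => Cfsg.Agent.H6.M11.tr_isConj (MonoidHom.map_isConj φ hab)
  have hχn : ∀ a, χ (Cfsg.Agent.H932.Mt.neg * a) = -χ a := by
    intro a
    have h1 : (((φ (Cfsg.Agent.H932.Mt.neg * a) : P) : GL ι F) : Matrix ι ι F) = (-1 : F) • (((φ a : P) : GL ι F) : Matrix ι ι F) := by
      rw [map_mul, Subgroup.coe_mul, Units.val_mul, hneg, Matrix.smul_mul, one_mul]
    have h2 := tr_smul h1
    change tr _ = -tr _
    rw [h2, neg_mul, one_mul]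
  have hχp : ∀ a, χ (a ^ p) = χ a ^ p := by
    intro a
    have h1 := tr_pow_char p ((φ a : P) : GL ι F) 1
    rw [pow_one] at h1
    change tr _ = tr _ ^ p
    rw [← h1, map_pow]
    rfl
  -- the letters
  have hv : Sat (fun i => φ (vG i)) := sat_G.map φ
  have hv0 : φ (vG 0) ≠ 1 := by
    intro h0
    exact vG_zero_ne (hinj (by rw [h0, map_one]))
  have hord : ∀ γ : Γ, orderOf ((φ γ : P) : GL ι F) = orderOf γ := by
    intro γ
    rw [Subgroup.orderOf_coe, orderOf_injective φ hinj]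
  -- the representation over the algebraic closure
  let K := AlgebraicClosure F
  have hck : CharP K p := charP_of_injective_algebraMap (algebraMap F _).injective p
  let R : Γ →* Module.End K (ι → K) := (rep P K).comp φ
  have hRneg : R neg = -1 := by
    change rep P K (φ neg) = -1
    rw [Cfsg.Agent.H6.M11.rep_apply, hneg]
    have h1 : ((-1 : F) • (1 : Matrix ι ι F)).map (algebraMap F K) = -1 := by
      rw [neg_smul, one_smul, Matrix.map_neg _ (map_neg _), Matrix.map_one _ (map_zero _) (map_one _)]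
    rw [h1, map_neg, Matrix.toLin'_one]
    rfl
  have hRop : ∀ i, op vG R [i] = rep P K (φ (vG i)) := by
    intro i
    rw [op, ev_cons, ev_nil, mul_one]
    rfl
  have hdim : finrank K (ι → K) = Fintype.card ι := Module.finrank_fintype_fun_eq_card K
  have hfr : ∀ (h11 : p = 3 ∨ ∀ k, (k = 11 ∨ k = 12) → χ (rp k)⁻¹ = χ (rp k))
      (h20 : p = 3 ∨ p = 5 ∨ χ (rp 14) = 0),
      ((p % 8 = 1 ∨ p % 8 = 3) → Fr P p) ∧ ((p % 8 = 5 ∨ p % 8 = 7) → Cj P p) := by
    intro h11 h20
    constructor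
    · intro h8
      refine Fr.of_reg' p fun g hg hreg => ?_
      obtain ⟨γ, hγ⟩ := hφ ⟨g, hg⟩
      have hγ' : ((φ γ : P) : GL ι F) = g := by rw [hγ]
      have h1 := (frob (χ := χ) hχc hp.out hp2 hχp hχn h11 h20 (g := γ) (by rwa [← hord, hγ'])).1 h8
      change tr _ ^ p = tr _ at h1
      rwa [hγ'] at h1
    · intro h8
      refine Cj.of_reg' p fun g hg hreg => ?_
      obtain ⟨γ, hγ⟩ := hφ ⟨g, hg⟩
      have hγ' : ((φ γ : P) : GL ι F) = g := by rw [hγ]
      have h1 := (frob (χ := χ) hχc hp.out hp2 hχp hχn h11 h20 (g := γ) (by rwa [← hord, hγ'])).2 h8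
      change tr ((φ γ : P) : GL ι F) ^ p = tr ((φ γ⁻¹ : P) : GL ι F) at h1
      rw [map_inv, Subgroup.coe_inv, hγ'] at h1
      exact h1
  by_cases hp3 : p = 3
  · left
    refine ⟨hp3, ?_, ?_⟩
    · -- the degree
      subst hp3
      obtain ⟨ξ, hξ⟩ := exists_root K 5 (cast_ne _ Nat.prime_three Nat.prime_five (by norm_num))
      obtain ⟨ζ, hζ⟩ := exists_root K 11 (cast_ne _ Nat.prime_three (by norm_num) (by norm_num))
      have h3 : (3 : K) = 0 := by
        have := CharP.cast_eq_zero K 3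
        exact_mod_cast this
      obtain ⟨d1, d2⟩ := dim_ne_eight (R := R) h3 hζ hξ hRneg (by
        intro S hS
        refine invariant K hC S fun g x hx => ?_
        obtain ⟨γ, rfl⟩ := hφ g
        exact hS γ x hx) (by
        intro h5
        rw [hRop] at h5
        have h6 := rep_eq_one K h5
        have h7 : vG 5 = 1 := hinj (by rw [h6, map_one])
        have h8 := el_val (LW 5) 2
        change ((vG 5).1.1 2).val = _ at h8
        rw [h7] at h8
        revert h8
        decide +kernel)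
      rw [hdim] at d1 d2
      obtain ⟨m, hm⟩ := heven
      omega
    · have h1 := (hfr (Or.inl hp3) (Or.inl hp3)).1 (Or.inr (by rw [hp3]))
      rwa [hp3] at h1
  · right
    have h9 := nine_le_of (P := P) p hp3 hp2 hv hv0 (by omega)
    have h10 : Fintype.card ι = 10 := by
      obtain ⟨m, hm⟩ := heven
      omega
    have h11 : ∀ k, (k = 11 ∨ k = 12) → χ (rp k)⁻¹ = χ (rp k) := by
      have h1 := real_eleven (P := P) p hp3 hv hv0 (by omega)
      rw [ev_cons, ev_nil, mul_one] at h1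
      have h2 : χ (rp 11)⁻¹ = χ (rp 11) := by
        have hi : IsConj (vG 5)⁻¹ (rp 11)⁻¹ := by
          obtain ⟨c, hc'⟩ := isConj_iff.1 conj_eleven
          refine isConj_iff.2 ⟨c, ?_⟩
          rw [← hc']
          group
        rw [← hχc _ _ conj_eleven, ← hχc _ _ hi]
        change tr ((φ (vG 5)⁻¹ : P) : GL ι F) = tr ((φ (vG 5) : P) : GL ι F)
        rw [map_inv]
        exact h1
      rintro k (rfl | rfl)
      · exact h2
      · rw [rp_twelve, inv_inv]
        exact h2.symm
    have h20 : χ (rp 14) = 0 := by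
      obtain ⟨ω, hω⟩ := exists_root K 3 (cast_ne _ hp.out Nat.prime_three hp3)
      have h2 : (2 : K) ≠ 0 := cast_ne _ hp.out Nat.prime_two hp2
      obtain ⟨i, hi⟩ := IsAlgClosed.exists_pow_nat_eq (-1 : K) (n := 2) (by norm_num)
      have h3 := tr_twenty (R := R) hω h2 (i := i) (by rw [← hi]; ring) hRneg (by
        intro h5
        rw [hRop] at h5
        exact hv0 (rep_eq_one K h5)) (by rw [hdim, h10])
      have h4 : LinearMap.trace K _ (rep P K (φ (el W20))) = 0 := h3
      rw [trace_rep] at h4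
      rw [← hχc _ _ conj_twenty]
      exact (algebraMap F K).injective (by rw [map_zero]; exact h4)
    refine ⟨hp3, h10, ?_⟩
    obtain ⟨f1, f2⟩ := hfr (Or.inr h11) (Or.inr (Or.inr h20))
    have hodd : p % 2 = 1 := by
      rcases hp.out.eq_two_or_odd with h | h
      · exact absurd h hp2
      · exact h
    by_cases h8 : p % 8 = 1 ∨ p % 8 = 3
    · exact Or.inl ⟨h8, f1 h8⟩
    · have h8' : p % 8 = 5 ∨ p % 8 = 7 := by omega
      exact Or.inr ⟨h8', f2 h8'⟩

end Cfsg.Agent.H24.M12
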