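import Cfsg.Agent.H24.M12.Trans

/-!
# The conjugacy classes of `2.M₁₂` (helper24)

`classes` : every element of `Γ = 2.M₁₂` is conjugate to `rp k` or `-rp k`, `k < 15`.
-/

set_option autoImplicit false
set_option maxRecDepth 100000

namespace Cfsg.Agent.H24.M12

open Cfsg Cfsg.Agent.H932.Mt

/-- words of the representatives -/
def RW : ℕ → List ℕ
  | 0 => []
  | 1 => [1]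
  | 2 => [1, 2, 1, 0]
  | 3 => [1, 2, 1, 0, 0, 0, 0, 0, 0]
  | 4 => [1, 0, 1, 0, 1, 0, 1, 0, 1, 0]
  | 5 => [1, 0, 1, 0, 1, 0, 0, 1, 0, 0, 0]
  | 6 => [1, 0, 0, 1, 0, 1, 0, 1, 0, 0, 0]
  | 7 => [1, 0, 0, 0, 0, 0]
  | 8 => [1, 2, 1, 0, 0]
  | 9 => [1, 2, 2, 1, 0, 1, 0, 0]
  | 10 => [1, 0, 1, 2, 2, 1, 0, 0]
  | 11 => [0, 0]
  | 12 => [2, 2]
  | 13 => [1, 0, 0, 0, 0]
  | _ => [1, 0]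

/-- the representatives -/
def rp (k : ℕ) : Γ := el (RW k)

/-- the inverse letter -/
def il : ℕ → ℕ
  | 0 => 2
  | 1 => 3
  | 2 => 0
  | _ => 1

/-- the inverse word -/
def iw (w : List ℕ) : List ℕ := (w.map il).reverse

/-- the test element of an entry -/
def cand (e : ℕ × List ℕ) : List ℕ := iw e.2 ++ (RW e.1 ++ e.2)

/-- the images of the rows `0, …, 4` -/
def code (e : ℕ × List ℕ) : ℕ :=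
  aw (cand e) 0 / 2 + 12 * (aw (cand e) 2 / 2) + 144 * (aw (cand e) 4 / 2) + 1728 * (aw (cand e) 6 / 2)
    + 20736 * (aw (cand e) 8 / 2)

/-- the entries -/
def tb : List (ℕ × List ℕ) := [
  (0, []),
  (6, [3, 2, 2, 2, 3, 2, 3, 0, 0, 3, 0, 3]),
  (6, [3, 0, 3, 0, 0, 3, 2, 2, 3, 0, 0]),
  (6, [0, 0, 3, 2, 2, 2, 3, 2, 3, 0, 0]),
  (6, [0, 3, 2, 2, 3, 0, 0, 0, 3]),
  (6, [3, 2, 2, 3, 0, 0, 0, 0, 0, 3]),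
  (6, [3, 2, 3, 2, 3]),
  (1, [2, 2, 2, 3, 0, 3, 0]),
  (1, [0, 3, 0, 0, 3, 2, 2, 3, 2, 3]),
  (6, [2, 3, 2, 2, 2, 3, 2, 2, 3, 2, 3]),
  (6, [0, 0, 0, 3, 2, 2, 2, 2]),
  (6, [2, 3, 2, 2, 3, 2, 3, 0, 3]),
  (6, [2, 2, 3, 2, 2, 2, 3, 0, 3, 2, 2, 2]),
  (6, [3, 0, 0, 3, 2, 3, 2, 3, 0, 0]),
  (6, [2, 2, 2, 2, 2, 3, 2, 2, 3, 2]),
  (3, [2, 2, 2, 3, 2, 3, 0]),
  (1, [2, 2, 3, 0, 3]),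
  (10, [2, 2, 2, 2, 3, 2, 2, 2, 2, 3, 0, 3, 0, 3]),
  (10, [0, 3, 0, 0, 0, 3, 0, 3, 2, 2, 3, 0, 0, 3]),
  (1, [2, 3, 2, 2, 3, 0, 0, 3]),
  (1, [2, 3, 2, 2, 3, 2, 2, 3, 2, 2, 3, 0]),
  (10, [2, 2, 3, 2, 2, 3, 2, 2, 3, 0, 3]),
  (10, [2, 2, 3, 2, 2, 2, 2, 3, 0, 3]),
  (1, [2, 3, 2, 3, 0, 0, 0, 0, 0]),
  (3, [0, 0, 3, 0, 0, 3, 2, 3]),
  (6, [3, 0, 3, 0, 0, 3, 2, 2, 3]),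
  (7, [0, 0, 3, 2, 2, 2, 3, 2, 3, 0, 0, 0, 3]),
  (10, [2, 3, 0, 0, 0, 0, 3, 0, 3, 0, 3, 2, 3, 0]),
  (10, [2, 2, 2, 2, 3, 2, 3, 0, 0, 3, 0, 3, 0, 3, 0]),
  (6, [2, 3, 0, 0, 3, 0, 3]),
  (7, [3, 2, 3, 2, 2, 2, 3, 2, 2, 2, 2, 3, 2]),
  (6, [3, 0, 0, 3, 2, 2, 2, 2, 2, 3, 2, 2]),
  (1, [0, 0, 0, 3, 0, 3, 0, 3, 0]),
  (1, [2, 3, 2, 3, 2, 3, 2]),
  (10, [0, 0, 0, 0, 3, 0, 3, 0, 0, 3, 2, 3, 0]),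
  (10, [2, 3, 2, 3, 0, 0, 3, 0, 0, 0, 0, 3, 2, 3, 2]),
  (10, [0, 0, 0, 0, 0, 3, 0, 0, 3, 2, 3, 0]),
  (10, [0, 3, 2, 3, 0, 0, 0, 3, 0, 3, 0]),
  (1, [0, 0, 0, 3, 2, 3, 2, 3, 2]),
  (1, [0, 0, 0, 3, 2, 2, 2, 3, 0]),
  (1, [2, 2, 2, 3, 2, 3]),
  (10, [2, 2, 2, 3, 0, 0, 3, 0, 3, 0, 0, 0, 0, 3]),
  (8, [0, 0, 3, 2, 2, 2, 3, 0, 0, 3, 0]),
  (8, [0, 3, 0, 3, 2, 2, 2, 3, 2, 3, 0, 3, 0]),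
  (10, [2, 2, 2, 3, 2, 3, 0, 3, 0, 3, 0, 0, 3, 0]),
  (10, [2, 3, 2, 2, 2, 3, 2, 3, 0, 3, 0]),
  (10, [2, 3, 0, 0, 0, 0, 0, 3, 2, 2, 2, 3, 2, 2]),
  (8, [0, 3, 0, 3, 0, 3, 0, 0, 3, 0, 3, 0, 3, 2, 3]),
  (3, [0, 0, 3, 2, 2, 2, 2]),
  (3, [2, 3, 0, 3, 2, 3, 2, 2, 3, 2]),
  (8, [2, 2, 2, 2, 3, 0, 0, 0, 0, 0, 3, 2, 2, 2]),
  (3, [2, 2, 2, 3, 0, 3, 2, 3, 2]),
  (8, [0, 3, 2, 2, 3, 2, 2, 3, 0, 3, 0, 0, 0, 3, 0]),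
  (3, [2, 3]),
  (8, [3, 2, 2, 2, 2, 3, 0, 0, 0, 3, 2, 2]),
  (8, [2, 2, 2, 2, 3, 0, 0, 0, 3, 0, 3, 2, 2, 3, 2, 2]),
  (6, [0, 0, 3, 0, 0, 3, 0, 0, 0]),
  (10, [3, 2, 2, 2, 3, 2, 2, 3, 2]),
  (7, [0, 3, 2, 3, 0, 0, 3, 0, 0, 0, 3]),
  (12, [3, 0, 3, 0, 3, 0, 3, 0, 3, 2, 2, 3, 0]),
  (8, [0, 3, 2, 2, 2, 2, 2, 3]),
  (11, [3, 2, 2, 3, 0, 0, 0, 3, 0, 3, 2, 2, 3, 2]),
  (10, [2, 3, 2, 2, 3, 2, 3, 0, 0, 3]),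
  (7, [2, 3, 0, 0, 3, 2, 2, 3, 0, 0, 3, 0, 0, 0]),
  (1, [2, 2, 3, 0, 3, 0, 0, 0, 0]),
  (10, [0, 0, 3, 0, 0, 0, 3, 0, 3]),
  (10, [2, 3, 2, 2, 2, 3, 2, 3, 2, 3, 0, 0, 3]),
  (1, [2, 2, 2, 3, 2, 3, 2, 2]),
  (1, [0, 0, 0, 3, 0, 3, 2, 2, 2]),
  (10, [2, 2, 2, 3, 2, 3, 2, 2, 3, 0, 0, 0, 0, 0, 3]),
  (10, [3, 2, 2, 3, 2, 3, 0, 0, 3, 0, 3, 0]),
  (1, [0, 3, 0, 3, 0]),
  (1, [2, 3, 2, 2, 3, 2, 2, 2, 2, 2]),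
  (8, [2, 2, 2, 2, 3, 0, 0, 0, 3, 2, 3, 0, 0]),
  (10, [3, 2, 3, 0, 0, 3, 0, 0, 3, 2, 2, 2, 3]),
  (10, [0, 0, 3, 2, 2, 2, 3, 0, 3, 0, 0, 0]),
  (10, [0, 3, 0, 3, 0, 3, 2, 2]),
  (8, [2, 2, 2, 2, 3, 2, 3, 2, 2, 3, 0, 3, 0, 3, 2]),
  (10, [0, 0, 0, 3, 0, 3, 2, 3, 2, 2, 3, 2, 2]),
  (8, [2, 2, 2, 2, 2, 3, 0, 0, 3, 0, 3, 0, 0, 0, 0]),
  (1, [2, 2, 3, 0, 0, 3, 0, 0]),
  (4, [2, 2, 2, 2]),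
  (4, [0, 3, 2, 2, 2, 2, 3, 0]),
  (5, [2, 2, 2, 3, 0, 0, 3, 2, 3]),
  (5, [0, 0, 3, 2, 2, 3, 0, 0, 0, 3, 2, 2]),
  (4, [2, 2, 3, 0]),
  (4, [2, 2, 2, 3, 2, 2]),
  (1, [0, 0, 0]),
  (8, [3, 0, 0, 0, 3, 2, 3, 2, 2, 3, 2, 2, 3, 2]),
  (14, [2, 2, 3, 2, 3, 2, 3, 0, 0, 0, 0, 3, 0, 3, 2, 2, 2]),
  (8, [2, 2, 2, 3, 2, 2, 3, 2, 2, 3, 2, 3, 0, 0, 0]),
  (10, [0, 0, 3, 0, 3, 0, 3, 2, 3, 2, 3]),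
  (10, [0, 3, 2, 3, 2, 3, 2, 3, 0, 3, 0, 0, 0, 3]),
  (14, [0, 0, 0, 0, 3, 2, 2, 3, 2, 3, 2, 2]),
  (8, [2, 2, 2, 3, 2, 2, 3, 2, 3, 0, 0, 0, 0, 0]),
  (5, [0, 3, 2, 2, 2, 2, 3, 2, 3, 0, 0]),
  (3, [3, 2, 2, 2, 3, 0, 0]),
  (8, [0, 0, 3, 0, 0, 3, 0, 3, 0, 0, 0, 3, 2, 3]),
  (8, [0, 3, 2, 3, 2, 2, 2, 2, 3, 2]),
  (3, [0, 0, 3, 2, 2, 3, 2, 2, 3]),
  (8, [3, 2, 2, 3, 0, 3, 0, 3, 0, 0]),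
  (3, [0, 0, 3, 2, 2, 3, 2, 3, 0]),
  (3, [3, 0, 0, 0, 0, 3, 0, 0, 0, 0]),
  (8, [0, 3, 2, 2, 2, 2, 2, 3, 2, 2, 2, 3]),
  (8, [0, 3, 0, 3, 2, 3, 2, 2, 3, 2, 2, 3, 0, 3]),
  (8, [3, 2, 2, 2, 3, 0, 0, 0, 0, 0, 3, 2, 3, 2, 3, 0]),
  (8, [0, 0, 0, 3, 0, 0, 0, 3, 0, 0]),
  (2, [2, 2, 2, 2, 2, 3, 0, 3, 2, 3, 2, 2]),
  (8, [0, 0, 3, 0, 0, 3, 0, 0, 0, 3, 0, 0, 3, 0, 0]),
  (2, [0, 3, 2, 3, 2, 2, 3, 2, 3]),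
  (2, [3, 0, 3, 0, 0, 3, 0, 3, 2, 2]),
  (3, [2, 3, 0, 0, 3, 2, 2, 3]),
  (6, [0, 3, 0, 0, 3, 0, 3, 0, 0, 3, 2]),
  (9, [2, 2, 2, 3, 2, 2, 2, 3, 0, 0, 0, 3, 0]),
  (6, [2, 3, 0, 3, 0, 3, 2, 2, 3]),
  (9, [0, 0, 0, 3, 0, 3, 0, 3, 2, 3, 2, 2, 2, 2]),
  (9, [2, 2, 2, 2, 3, 2, 2, 2, 3, 0, 0, 0, 3]),
  (5, [2, 3, 0, 3, 0, 0, 3, 0, 3]),
  (9, [3, 0, 0, 3, 0, 0, 3, 0, 0, 0, 3]),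
  (5, [0, 0, 0, 3, 0, 0, 0, 3, 0, 0, 3]),
  (7, [2, 3, 0, 3, 2, 3, 2, 2, 2, 3, 2, 3, 2, 2]),
  (11, [3, 2, 2, 2, 3, 0, 3, 0, 3, 2, 2, 2, 3, 0, 3]),
  (12, [3, 2, 3, 0, 0, 3, 0, 0, 3, 0, 3]),
  (14, [0, 3, 2, 3, 2, 3, 2, 2, 2, 2, 3]),
  (13, [0, 3, 0, 0, 0, 0, 0, 3, 2, 2, 3, 0]),
  (10, [2, 3, 2, 2, 2, 3, 2, 3, 2, 3, 0, 0, 0]),
  (9, [0, 0, 3, 0, 0, 0, 0, 3, 2, 2, 2, 3, 0, 3]),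
  (8, [0, 0, 3, 0, 3, 2, 2, 3, 2, 2, 2, 3, 2, 3])]

/-- the codes -/
def cds : List ℕ := [
  88428, 109164, 129900, 150636, 171372, 192108, 212844, 233580, 69420, 110892, 131628, 152364, 173100, 193836, 214572, 235308,
  86844, 107580, 128316, 149052, 169788, 190524, 211260, 231996, 48828, 111036, 131772, 152508, 173244, 193980, 214716, 235452,
  88296, 109032, 129768, 150504, 171240, 191976, 212712, 233448, 69288, 110760, 131496, 152232, 172968, 193704, 214440, 235176,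
  85128, 105864, 126600, 147336, 168072, 188808, 209544, 230280, 28104, 111048, 131784, 152520, 173256, 193992, 214728, 235464,
  88417, 109153, 129889, 150625, 171361, 192097, 212833, 233569, 69409, 110881, 131617, 152353, 173089, 193825, 214561, 235297,
  86833, 107569, 128305, 149041, 169777, 190513, 211249, 231985, 48817, 111025, 131761, 152497, 173233, 193969, 214705, 235441,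
  88153, 108889, 129625, 150361, 171097, 191833, 212569, 233305, 69145, 110617, 131353, 152089, 172825, 193561, 214297, 235033,
  83401, 104137, 124873, 145609, 166345, 187081, 207817, 228553, 7369, 111049, 131785, 152521, 173257, 193993, 214729, 235465]

theorem tb_code : tb.map code = cds := by decide +kernel

/-- the code of a tuple -/
def enc5 (a b c d x : ℕ) : ℕ := a + 12 * b + 144 * c + 1728 * d + 20736 * x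

theorem key : ∀ (a : Fin 2) (b : Fin 3) (c : Fin 4) (d : Fin 5) (x : Fin 12),
    (a.1 == b.1 || (a.1 == c.1 || (a.1 == d.1 || (a.1 == x.1 || (b.1 == c.1 || (b.1 == d.1 || (b.1 == x.1 ||
      (c.1 == d.1 || (c.1 == x.1 || (d.1 == x.1 || cds.contains (enc5 a.1 b.1 c.1 d.1 x.1))))))))))) = true := by
  decide +kernel

end Cfsg.Agent.H24.M12
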