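import Cfsg.Agent.H6.M11.Line

/-!
# Representations of `M₁₁`: if elements of order 4 have trace 0 then `dim Cp ≠ 2` (helper24)
-/

set_option autoImplicit false
set_option linter.unusedSectionVars false
set_option maxRecDepth 100000

namespace Cfsg.Agent.H24.M12

open Module LinearMap Cfsg.Agent.H6.M11

variable {G : Type*} [Group G] {v : ℕ → G} {k : Type*} [Field k] {V : Type*} [AddCommGroup V] [Module k V]
  [FiniteDimensional k V] {R : G →* End k V} {ω : k}

theorem tE_q3 (h : Sat v) (h3 : (3 : k) ≠ 0) : tE v R [3, 2, 2, 2] = tw v R [2, 2] := by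
  have h1 := h.nine_tE (R := R) h3 [3, 2, 2, 2]
  simp only [List.cons_append, List.nil_append, h.t_3222, h.t_32221, h.t_322211, h.t_32220, h.t_322201, h.t_3222011,
    h.t_322200, h.t_3222001, h.t_32220011] at h1
  apply mul_left_cancel₀ (nine_ne h3)
  linear_combination h1

theorem tE_q7 (h : Sat v) (h3 : (3 : k) ≠ 0) : tE v R [3, 2, 2, 2, 2, 2, 2, 2] = tw v R [2, 2] := by
  have h1 := h.nine_tE (R := R) h3 [3, 2, 2, 2, 2, 2, 2, 2]
  have t011 : tw v R [3, 2, 2, 2, 2, 2, 2, 2, 0, 1, 1] = tw v R [2, 2] :=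
    h.tw_eq [4, 7, 0] (by decide +kernel)
  have t11 : tw v R [3, 2, 2, 2, 2, 2, 2, 2, 1, 1] = tw v R [2, 2] := h.tw_eq [4, 0] (by decide +kernel)
  have t001 : tw v R [3, 2, 2, 2, 2, 2, 2, 2, 0, 0, 1] = tw v R [2, 2] := h.tw_eq [4, 0, 1] (by decide +kernel)
  have t0011 : tw v R [3, 2, 2, 2, 2, 2, 2, 2, 0, 0, 1, 1] = tw v R [2, 2] := h.tw_eq [4, 1] (by decide +kernel)
  simp only [List.cons_append, List.nil_append, h.t_32222222, h.t_322222221, h.t_322222220, h.t_3222222201,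
    h.t_3222222200, t011, t11, t001, t0011] at h1
  apply mul_left_cancel₀ (nine_ne h3)
  linear_combination h1

theorem cp_ne_two (h : Sat v) (hω : IsPrimitiveRoot ω 3) (h2 : (2 : k) ≠ 0) (ht : tw v R [2, 2] = 0) :
    finrank k (Cp v R) ≠ 2 := by
  intro hf
  have h3 : (3 : k) ≠ 0 := three_ne hω
  have hP := h.isProj_pP (R := R) hω h2
  have hz : op v R [2, 2, 2, 2] * pP v R = pP v R := by
    ext u
    have e1 := (Submodule.mem_inf.1 (hP.map_mem u)).2
    rwa [End.mem_eigenspace_iff, one_smul] at e1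
  have c22 := h.comm_pP (R := R) h3 [2, 2] (by decide)
  have c32 := h.comm_pP (R := R) h3 [3, 2] (by decide)
  have s22 : op v R [2, 2] * (op v R [2, 2] * pP v R) = pP v R := by
    rw [← mul_assoc, ← op_append]
    exact hz
  obtain ⟨d1, d2⟩ := two_dims h2 hP c22 s22
  have d2' : LinearMap.trace k V (op v R [2, 2] * pP v R) = 0 := by
    rw [trace_pP, show ([2, 2] : List ℕ) ++ [2, 2, 2, 2] = [2, 2, 2, 2, 2, 2] from rfl, h.tE_yy h3, h.tE_y6 h3, ht,
      add_zero, mul_zero]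
  rw [d2', eq_comm, sub_eq_zero] at d2
  have d3 := cast_eq h2 h3 d2 (by omega) (by omega)
  have d4 : finrank k (Cp v R ⊓ End.eigenspace (op v R [2, 2]) 1 : Submodule k V) = 1 := by omega
  have hP1 := isProj_plus h2 hP c22 s22
  have hq3 : op v R [3, 2] * (op v R [2, 2] * pP v R) = op v R [3, 2, 2, 2] * pP v R := by
    rw [← mul_assoc, ← op_append]
    rfl
  have c1 : op v R [3, 2] * (op v R [2, 2] * pP v R) = op v R [2, 2] * pP v R * op v R [3, 2] := by
    rw [hq3, show op v R [3, 2, 2, 2] = op v R [2, 2, 2, 2, 2, 2, 3, 2] from h.op_eq (by decide +kernel),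
      show ([2, 2, 2, 2, 2, 2, 3, 2] : List ℕ) = [2, 2] ++ ([2, 2, 2, 2] ++ [3, 2]) from rfl, op_append, op_append,
      mul_assoc, mul_assoc, c32, ← mul_assoc (op v R [2, 2, 2, 2]), hz, mul_assoc]
  have c2 : op v R [3, 2] * ((2 : k)⁻¹ • (pP v R + op v R [2, 2] * pP v R)) =
      ((2 : k)⁻¹ • (pP v R + op v R [2, 2] * pP v R)) * op v R [3, 2] := by
    rw [mul_smul_comm, smul_mul_assoc, mul_add, add_mul, c1, c32]
  have s2 : op v R [3, 2] * (op v R [3, 2] * ((2 : k)⁻¹ • (pP v R + op v R [2, 2] * pP v R))) =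
      (2 : k)⁻¹ • (pP v R + op v R [2, 2] * pP v R) := by
    rw [← mul_assoc, ← op_append, show ([3, 2] : List ℕ) ++ [3, 2] = [3, 2, 3, 2] from rfl,
      show op v R [3, 2, 3, 2] = op v R [2, 2, 2, 2] from h.op_eq (by decide +kernel), mul_smul_comm, mul_add, hz,
      ← mul_assoc, ← op_append, show ([2, 2, 2, 2] : List ℕ) ++ [2, 2] = [2, 2] ++ [2, 2, 2, 2] from rfl, op_append,
      mul_assoc, hz]
  obtain ⟨e1, e2⟩ := two_dims h2 hP1 c2 s2
  have e3 : LinearMap.trace k V (op v R [3, 2] * ((2 : k)⁻¹ • (pP v R + op v R [2, 2] * pP v R))) = 0 := by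
    rw [mul_smul_comm, mul_add, hq3, map_smul, map_add, trace_pP, trace_pP,
      show ([3, 2] : List ℕ) ++ [2, 2, 2, 2] = [3, 2, 2, 2, 2, 2] from rfl,
      show ([3, 2, 2, 2] : List ℕ) ++ [2, 2, 2, 2] = [3, 2, 2, 2, 2, 2, 2, 2] from rfl, h.tE_q h3, h.tE_q5 h3,
      tE_q3 h h3, tE_q7 h h3, ht, add_zero, mul_zero, add_zero, smul_zero]
  rw [e3, eq_comm, sub_eq_zero] at e2
  rw [d4] at e1
  have e4 := cast_eq h2 h3 e2 (by omega) (by omega)
  omega

end Cfsg.Agent.H24.M12
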