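import Cfsg.Agent.H24.M12.Tab
import Cfsg.Agent.H6.M11.Main11

/-!
# The letters of `M₁₁` in `2.M₁₂` (helper24)

`vG i` : the element of `Γ = 2.M₁₂` over the letter `i` of helper6 fixing the signed point `pos 0`; `Sat vG`.
-/

set_option autoImplicit false
set_option maxRecDepth 100000

namespace Cfsg.Agent.H24.M12

open Cfsg.Agent.H932.Mt
open Cfsg.Agent.H6.M11 (Sat relL)

/-- words of the letters -/
def LW : ℕ → List ℕ
  | 0 => [1, 2, 1, 2, 2, 2, 1, 0, 1, 0, 1, 0, 0, 0, 0, 1, 0, 0]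
  | 1 => [0, 0, 0, 1, 2, 2, 2, 1, 2, 1, 2, 1, 2, 1, 2, 1]
  | 2 => [0, 1, 0, 1, 0, 1, 0, 0, 1, 0, 0, 0, 0, 0, 1, 2, 1]
  | 3 => [1, 0, 1, 2, 1, 2, 1, 2, 2, 1, 0, 0, 1, 0]
  | 4 => [0, 0, 1, 0, 0, 0, 1, 2, 1, 0, 0, 1, 0, 0, 0, 0, 1, 0, 0, 0, 0]
  | 5 => [1, 0, 0, 0, 1, 0, 0, 0, 0, 0, 0, 1, 0, 0, 0, 0, 0, 1]
  | 6 => [2, 2, 1, 0, 1, 2, 2, 2, 2, 2, 1, 2, 2, 1, 2, 2, 2]
  | 7 => [1, 2, 1, 0, 0, 0, 0, 1, 0, 0, 1, 0, 0, 0, 0]
  | 8 => [1, 0, 0, 1, 2, 1, 2, 2, 2, 1, 0, 0, 0, 1, 0, 1, 0, 1, 0]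
  | _ => []

/-- tables of the letters -/
def LT : ℕ → ℕ
  | 0 => 0x2158d9c94b7b92810e95bd8c78c020
  | 1 => 0x846f69ca957b8a4634c710d4b4a020
  | 2 => 0x2912873e119caf66b16aa544339820
  | 3 => 0xad2f673e3094ca45a8c7425ac18820
  | 4 => 0xbdab473e72844a431d6a4244363420
  | 5 => 0x290436b25331ed74a230ad1cf52c20
  | 6 => 0x8c1cfb5d2818a95634e694ca452c20
  | 7 => 0x398439c9287b94b63630bd8a4a5420
  | 8 => 0x3990973c6294dac5aa95bd8a48c020
  | _ => 0xbdab49ca307b9ac5a928398a418820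

theorem LT_ok : ∀ i : Fin 10, ∀ k : Fin 24, aw (LW i.1) k.1 = app (LT i.1) k.1 := by decide +kernel

theorem LT_lt : ∀ i : Fin 10, ∀ k : Fin 24, app (LT i.1) k.1 < 24 := by decide +kernel

/-- the letters -/
def vG (i : ℕ) : Γ := el (LW i)

theorem ev_vG (w : List ℕ) : Cfsg.Agent.H6.M11.ev vG w = el (w.flatMap LW) := by
  induction w with
  | nil => rfl
  | cons i w ih => rw [Cfsg.Agent.H6.M11.ev_cons, ih, List.flatMap_cons, el_append]; rfl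

theorem aw_append (u w : List ℕ) (k : ℕ) : aw (u ++ w) k = aw u (aw w k) := by
  induction u with
  | nil => rfl
  | cons i u ih => rw [List.cons_append, aw, aw, ih]

/-- image of a point under a word in the letters -/
def al : List ℕ → ℕ → ℕ
  | [], k => k
  | i :: w, k => app (LT i) (al w k)

theorem LT_ge {i : ℕ} (h : 9 ≤ i) : LT i = LT 9 ∧ LW i = LW 9 := by
  obtain ⟨k, rfl⟩ := Nat.exists_eq_add_of_le h
  rw [Nat.add_comm]
  exact ⟨rfl, rfl⟩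

theorem LT_all (i : ℕ) {k : ℕ} (hk : k < 24) : aw (LW i) k = app (LT i) k ∧ app (LT i) k < 24 := by
  rcases Nat.lt_or_ge i 9 with hi | hi
  · exact ⟨LT_ok ⟨i, by omega⟩ ⟨k, hk⟩, LT_lt ⟨i, by omega⟩ ⟨k, hk⟩⟩
  · rw [(LT_ge hi).1, (LT_ge hi).2]
    exact ⟨LT_ok 9 ⟨k, hk⟩, LT_lt 9 ⟨k, hk⟩⟩

theorem al_spec (w : List ℕ) {k : ℕ} (hk : k < 24) : aw (w.flatMap LW) k = al w k ∧ al w k < 24 := by
  induction w with
  | nil => exact ⟨rfl, hk⟩
  | cons i w ih =>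
    rw [List.flatMap_cons, aw_append, ih.1]
    exact LT_all i ih.2

/-- test for the equality of two words in the letters -/
def eql (u w : List ℕ) : Bool := allB (fun i => Nat.beq (al u (2 * i)) (al w (2 * i))) 12

theorem ev_eq {u w : List ℕ} (h : eql u w = true) : Cfsg.Agent.H6.M11.ev vG u = Cfsg.Agent.H6.M11.ev vG w := by
  rw [ev_vG, ev_vG]
  apply ext_pos
  intro i
  apply Fin.ext
  have hi : (pos i).val < 24 := (pos i).2
  rw [el_val, el_val, (al_spec u hi).1, (al_spec w hi).1]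
  exact Nat.eq_of_beq_eq_true (allB_spec h i.1 i.2)

/-- **the relations of `M₁₁`** -/
theorem sat_G : Sat vG := by
  have h : (relL.all fun r => eql r.1 r.2) = true := by decide +kernel
  intro r hr
  exact ev_eq (List.all_eq_true.1 h r hr)

theorem vG_zero_ne : vG 0 ≠ 1 := by
  intro h
  have h1 := el_val (LW 0) 2
  change ((vG 0).1.1 2).val = _ at h1
  rw [h] at h1
  revert h1
  decide +kernel

end Cfsg.Agent.H24.M12
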