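import Cfsg.Agent.H24.M12.Letters
import Cfsg.Agent.H24.M12.Trans
import Cfsg.Agent.FooteOdd.SporMEleven

/-!
# The stabilizer of a signed point in `2.M₁₂` is `M₁₁` (helper24)
-/

set_option autoImplicit false
set_option maxRecDepth 100000
open scoped Pointwise

namespace Cfsg.Agent.H24.M12

open Cfsg Cfsg.Agent.H932.Mt
open Cfsg.Agent.H6.M11 (Sat vH v11 closure_11 W)
open Cfsg.Agent.CoThreeStd.MTwelve (act act_spec dec_enc enc_lt wd)
open Cfsg.Agent.SporadicStructure.M11InvPerms (enc dec)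

/-- the stabilizer of the first signed point -/
def H0 : Subgroup Γ where
  carrier := {g | g.1.1 (pos 0) = pos 0}
  one_mem' := rfl
  mul_mem' := by
    intro a b ha hb
    change a.1.1 (b.1.1 (pos 0)) = pos 0
    rw [show b.1.1 (pos 0) = pos 0 from hb]
    exact ha
  inv_mem' := by
    intro a ha
    change (a.1.1)⁻¹ (pos 0) = pos 0
    rw [Equiv.Perm.inv_eq_iff_eq]
    exact (show a.1.1 (pos 0) = pos 0 from ha).symm

theorem mem_H0 {g : Γ} : g ∈ H0 ↔ g.1.1 (pos 0) = pos 0 := Iff.rfl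

theorem LT_zero : ∀ i : Fin 10, app (LT i.1) 0 = 0 := by decide +kernel

theorem vG_mem (i : ℕ) : vG i ∈ H0 := by
  rw [mem_H0]
  apply Fin.ext
  have h1 := el_val (LW i) (pos 0)
  have h2 := (LT_all i (k := 0) (by norm_num)).1
  change ((vG i).1.1 (pos 0)).val = 0
  rw [show ((vG i).1.1 (pos 0)).val = _ from h1]
  change aw (LW i) 0 = 0
  rw [h2]
  rcases Nat.lt_or_ge i 9 with hi | hi
  · exact LT_zero ⟨i, by omega⟩
  · rw [(LT_ge hi).1]
    exact LT_zero 9

/-- the letters in the stabilizer -/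
def v0 (i : ℕ) : H0 := ⟨vG i, vG_mem i⟩

theorem sat_0 : Sat v0 :=
  Cfsg.Agent.H6.M11.Sat.of_injective (f := H0.subtype) H0.subtype_injective sat_G

theorem neg_notMem : neg ∉ H0 := by
  rw [mem_H0, Cfsg.Agent.H932.Mt.neg_apply]
  decide +kernel

theorem rowp_zero : rowp 0 = some 0 := by decide +kernel

/-- the map to `M₁₁` -/
def j11 : H0 →* Spor.M11 where
  toFun g := ⟨(sig (g : Γ) : Equiv.Perm GolayPt), Subgroup.mem_inf.2 ⟨(sig (g : Γ)).2, by
    rw [MulAction.mem_stabilizer_iff]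
    change (sig (g : Γ) : Equiv.Perm GolayPt) (some 0) = some 0
    rw [← rowp_zero, sig_rowp]
    congr 1
    change idx ((g : Γ).1.1 (pos 0)) = 0
    rw [mem_H0.1 g.2, idx_pos]⟩⟩
  map_one' := rfl
  map_mul' _ _ := rfl

theorem eq_of_sig_eq {a b : Γ} (ha : a ∈ H0) (hb : b ∈ H0) (h : sig a = sig b) : a = b := by
  have h1 : sig (a * b⁻¹) = 1 := by rw [map_mul, map_inv, h, mul_inv_cancel]
  rcases eq_of_sig h1 with h2 | h2
  · exact mul_inv_eq_one.1 h2
  · exfalso
    apply neg_notMem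
    rw [← h2]
    exact H0.mul_mem ha (H0.inv_mem hb)

theorem j11_coe (g : H0) : ((j11 g : Spor.M11) : Equiv.Perm GolayPt) = (sig (g : Γ) : Equiv.Perm GolayPt) := rfl

theorem j11_injective : Function.Injective j11 := by
  intro a b h
  apply Subtype.ext
  apply eq_of_sig_eq a.2 b.2
  apply Subtype.ext
  rw [← j11_coe, ← j11_coe, h]

theorem j11_surjective : Function.Surjective j11 := by
  rintro ⟨m, hm⟩
  obtain ⟨h1, h2⟩ := Subgroup.mem_inf.1 hm
  obtain ⟨g, hg⟩ := sig_surjective ⟨m, h1⟩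
  have h3 : lp g 0 = 0 := by
    apply rowp_inj
    rw [← sig_rowp, hg, rowp_zero]
    exact h2
  have h4 : g.1.1 (pos 0) = pos 0 ∨ g.1.1 (pos 0) = ng (pos 0) := by
    have h5 := eq_pos_or (g.1.1 (pos 0))
    rwa [show idx (g.1.1 (pos 0)) = 0 from h3] at h5
  rcases h4 with h4 | h4
  · refine ⟨⟨g, h4⟩, Subtype.ext ?_⟩
    rw [j11_coe]
    exact congrArg (fun z : Spor.M12 => (z : Equiv.Perm GolayPt)) hg
  · refine ⟨⟨neg * g, ?_⟩, Subtype.ext ?_⟩
    · rw [mem_H0]
      change neg.1.1 (g.1.1 (pos 0)) = pos 0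
      rw [h4, Cfsg.Agent.H932.Mt.neg_apply, ng_ng]
    · change (sig (neg * g) : Equiv.Perm GolayPt) = m
      rw [map_mul, sig_neg, one_mul, hg]

/-- the stabilizer is the Mathieu group of degree 11 -/
noncomputable def e11 : H0 ≃* Spor.M11 := MulEquiv.ofBijective j11 ⟨j11_injective, j11_surjective⟩

theorem simple_H0 : IsSimpleGroup H0 :=
  have := Cfsg.Agent.FooteOdd.SporMEleven.simple
  MulEquiv.isSimpleGroup e11

theorem sig_of_rows {g : Γ} {m : Spor.M12} (h : ∀ j : Fin 5, (m : Equiv.Perm GolayPt) (rowp ⟨j.1, by omega⟩) =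
    rowp (lp g ⟨j.1, by omega⟩)) : sig g = m := by
  have ha : Function.Injective (fun i : Fin 5 => (⟨i.1, by omega⟩ : Fin 12)) := fun i j hij =>
    Fin.ext (by have h5 := congrArg (fun z : Fin 12 => z.val) hij; exact h5)
  obtain ⟨n, -, hu⟩ := Cfsg.Agent.SporadicStructure.DodecadM12.exists_unique_dodecad_map _ _ sd_mem sd_mem
    (fun i : Fin 5 => rowp ⟨i.1, by omega⟩) (fun i => rowp (lp g ⟨i.1, by omega⟩))
    (fun i j h => ha (rowp_inj _ _ h))
    (fun i j h => ha ((lp g).injective (rowp_inj _ _ h)))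
    (fun i => rowp_mem _) (fun i => rowp_mem _)
  have e1 := hu (sig g) ⟨(sig g).2.1, (sig g).2.2, fun i => sig_rowp g _⟩
  have e2 := hu m ⟨m.2.1, m.2.2, h⟩
  exact Subtype.ext (e1.trans e2.symm)

theorem row5 : ∀ j : Fin 12, dec (act (W 5) (enc (rowp j))) = rowp (lp (vG 5) j) := by decide +kernel

theorem row8 : ∀ j : Fin 12, dec (act (W 8) (enc (rowp j))) = rowp (lp (vG 8) j) := by decide +kernel

theorem vH_apply (i : ℕ) (z : GolayPt) : (vH i : Equiv.Perm GolayPt) z = dec (act (W i) (enc z)) := by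
  have h1 := (act_spec (W i) (enc z) (enc_lt z)).1
  rw [dec_enc] at h1
  rw [← h1, dec_enc]
  rfl

theorem sig_five : sig (vG 5) = vH 5 := sig_of_rows fun j => by rw [vH_apply, row5]

theorem sig_eight : sig (vG 8) = vH 8 := sig_of_rows fun j => by rw [vH_apply, row8]

/-- `x` and `t` generate the stabilizer -/
theorem closure_0 : Subgroup.closure ({v0 5, v0 8} : Set H0) = ⊤ := by
  have h1 : (Subgroup.closure ({v0 5, v0 8} : Set H0)).map j11 = ⊤ := by
    rw [MonoidHom.map_closure, Set.image_pair,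
      show j11 (v0 5) = v11 5 from Subtype.ext (congrArg (fun z : Spor.M12 => (z : Equiv.Perm GolayPt)) sig_five),
      show j11 (v0 8) = v11 8 from Subtype.ext (congrArg (fun z : Spor.M12 => (z : Equiv.Perm GolayPt)) sig_eight), closure_11]
  rw [eq_top_iff]
  intro g _
  have h2 : j11 g ∈ (Subgroup.closure ({v0 5, v0 8} : Set H0)).map j11 := by rw [h1]; trivial
  obtain ⟨a, ha, hag⟩ := h2
  rwa [← j11_injective hag]

/-- a homomorphism from the stabilizer killing `x` is trivial -/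
theorem trivial_of_five {M : Type*} [Monoid M] (f : H0 →* M) (h : f (v0 5) = 1) (g : H0) : f g = 1 := by
  have hs := simple_H0
  have hk : ∃ N : Subgroup H0, N.Normal ∧ v0 5 ∈ N ∧ ∀ g ∈ N, f g = 1 := by
    refine ⟨{ carrier := {g | f g = 1}, one_mem' := map_one f, mul_mem' := ?_, inv_mem' := ?_ }, ⟨?_⟩, h, fun g hg => hg⟩
    · intro a b ha hb
      change f (a * b) = 1
      rw [map_mul, show f a = 1 from ha, show f b = 1 from hb, one_mul]
    · intro a ha
      change f a⁻¹ = 1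
      have h1 : f (a⁻¹ * a) = 1 := by rw [inv_mul_cancel, map_one]
      rwa [map_mul, show f a = 1 from ha, mul_one] at h1
    · intro a ha b
      change f (b * a * b⁻¹) = 1
      rw [map_mul, map_mul, show f a = 1 from ha, mul_one, ← map_mul, mul_inv_cancel, map_one]
  obtain ⟨N, hN, h5, hf⟩ := hk
  rcases hs.eq_bot_or_eq_top_of_normal N hN with h1 | h1
  · exfalso
    rw [h1, Subgroup.mem_bot] at h5
    have h6 := congrArg Subtype.val h5
    change vG 5 = 1 at h6
    have h7 := el_val (LW 5) 2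
    change ((vG 5).1.1 2).val = _ at h7
    rw [h6] at h7
    revert h7
    decide +kernel
  · exact hf g (by rw [h1]; trivial)

end Cfsg.Agent.H24.M12
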