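import Cfsg.Agent.H932.MtRel

/-!
# Words in `2.M₁₂` and tables (helper24)

`aw w k` : image of the signed point number `k` under the word `w` in the generators `x, y, x⁻¹, y⁻¹`
(letters `0, 1, 2, 3`) of `Γ = 2.M₁₂`; equality of words is a Boolean test.
-/

set_option autoImplicit false

namespace Cfsg.Agent.H24.M12

open Cfsg.Agent.H932.Mt

/-- packed tables of the generators -/
def gt4 : ℕ → ℕ
  | 0 => 0xa5485004625a9cfb5d096b21194ce6
  | 1 => 0xbd8205a928399ac9ca307b8a418ab4
  | 2 => 0x52ed710c85634e67b909082958c253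
  | _ => 0xbd8205a928399ac9ca307b8a418ab4

/-- image of a point under a packed table -/
def app (T k : ℕ) : ℕ := (T >>> (5 * k)) % 32

/-- image of a point under a word -/
def aw : List ℕ → ℕ → ℕ
  | [], k => k
  | i :: w, k => app (gt4 i) (aw w k)

theorem gen_app : ∀ i : Fin 4, ∀ k : Fin 24, ((el [i.1]).1.1 k).val = app (gt4 i.1) k.val := by decide +kernel

theorem el_nil : el [] = 1 := rfl

theorem el_cons (i : ℕ) (w : List ℕ) : el (i :: w) = el [i] * el w := by
  apply Subtype.ext
  match i with
  | 0 => rfl
  | 1 => rfl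
  | 2 => rfl
  | (n + 3) => rfl

theorem el_append (u w : List ℕ) : el (u ++ w) = el u * el w := by
  induction u with
  | nil => rw [List.nil_append, el_nil, one_mul]
  | cons i u ih => rw [List.cons_append, el_cons, ih, el_cons i u, mul_assoc]

theorem el_val (w : List ℕ) (k : Fin 24) : ((el w).1.1 k).val = aw w k.val := by
  induction w with
  | nil => rfl
  | cons i w ih =>
    rw [el_cons]
    change ((el [i]).1.1 ((el w).1.1 k)).val = app (gt4 i) (aw w k.val)
    rw [← ih]
    match i with
    | 0 => exact gen_app 0 _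
    | 1 => exact gen_app 1 _
    | 2 => exact gen_app 2 _
    | (n + 3) => exact gen_app 3 _

/-- test for all `k < n` -/
def allB (f : ℕ → Bool) : ℕ → Bool
  | 0 => true
  | n + 1 => f n && allB f n

theorem allB_spec {f : ℕ → Bool} : ∀ {n : ℕ}, allB f n = true → ∀ x, x < n → f x = true
  | 0, _, x, hx => absurd hx (Nat.not_lt_zero x)
  | n + 1, h, x, hx => by
    rw [allB, Bool.and_eq_true] at h
    rcases Nat.lt_succ_iff_lt_or_eq.1 hx with h1 | h1
    · exact allB_spec h.2 x h1
    · rw [h1]; exact h.1

/-- equality of elements from the images of the positive points -/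
theorem ext_pos {a b : Γ} (h : ∀ i : Fin 12, a.1.1 (pos i) = b.1.1 (pos i)) : a = b := by
  apply gext
  apply Equiv.ext
  intro k
  rcases eq_pos_or k with hk | hk
  · rw [hk, h]
  · rw [hk, ng_comm, ng_comm, h]

/-- test for the equality of two words -/
def eqw (u w : List ℕ) : Bool := allB (fun i => Nat.beq (aw u (2 * i)) (aw w (2 * i))) 12

theorem el_eq {u w : List ℕ} (h : eqw u w = true) : el u = el w := by
  apply ext_pos
  intro i
  apply Fin.ext
  rw [el_val, el_val]
  exact Nat.eq_of_beq_eq_true (allB_spec h i.1 i.2)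

/-- the word of `-1` -/
def nw : List ℕ := [0, 0, 0, 0, 0, 0, 0, 0, 0, 0, 0]

theorem el_nw : el nw = neg := rfl

theorem el_eq_neg {u w : List ℕ} (h : eqw u (nw ++ w) = true) : el u = neg * el w := by
  rw [el_eq h, el_append, el_nw]

end Cfsg.Agent.H24.M12
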