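import Cfsg.Agent.H24.M12.CpTwo
import Cfsg.Agent.H24.M12.Letters
import Cfsg.Agent.H24.M12.Pow

/-!
# Representations of degree 10 of `2.M₁₂`: the elements of order 20 have trace 0 (helper24)

`V` faithful of degree 10, characteristic not 2, 3.  The subgroup `E` of order 9 has a fixed vector `v` which is an
eigenvector of an element of order 4; `g` of order 20 permutes ten lines, `v, g v, …, g⁹ v` is a basis.
-/

set_option autoImplicit false
set_option linter.unusedSectionVars false
set_option maxRecDepth 100000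

namespace Cfsg.Agent.H24.M12

open Module LinearMap Cfsg.Agent.H6.M11 Cfsg.Agent.H932.Mt

variable {k : Type*} [Field k] {V : Type*} [AddCommGroup V] [Module k V]
  [FiniteDimensional k V] {R : Γ →* End k V} {ω : k}

/-- an element of order 20 -/
def W20 : List ℕ := [1, 0, 0, 0, 0, 0, 1, 0, 0, 0, 1]

/-- conjugates the element of order 4 to its negative -/
def WN : List ℕ := [1, 0, 1, 0, 1, 0, 0, 0, 1, 2, 2, 2, 2, 2, 2, 1, 0, 1]

/-- the exponents -/
def TW : ℕ → ℕ × ℕ × ℕ × ℕ
  | 1 => (2, 1, 1, 0)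
  | 2 => (1, 0, 2, 2)
  | 3 => (2, 2, 0, 0)
  | 4 => (2, 0, 2, 0)
  | 5 => (1, 1, 1, 2)
  | 6 => (0, 2, 0, 1)
  | 7 => (0, 0, 2, 1)
  | 8 => (1, 2, 0, 2)
  | _ => (0, 1, 1, 1)

/-- `e₁^a e₂^b y^(2 j)` in the letters -/
def bw (a b j : ℕ) : List ℕ := List.replicate a 0 ++ (List.replicate b 1 ++ List.replicate j 2)

theorem tw_ok : ∀ m : Fin 9, eqw (rpt (m.1 + 1) W20 ++ (bw (TW (m.1 + 1)).1 (TW (m.1 + 1)).2.1 2).flatMap LW)
    ((bw (TW (m.1 + 1)).2.2.1 (TW (m.1 + 1)).2.2.2 6).flatMap LW ++ rpt (m.1 + 1) W20) = true := by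
  decide +kernel

theorem tw_rel (m : ℕ) (h1 : 1 ≤ m) (h9 : m ≤ 9) : el W20 ^ m * ev vG (bw (TW m).1 (TW m).2.1 2) =
    ev vG (bw (TW m).2.2.1 (TW m).2.2.2 6) * el W20 ^ m := by
  obtain ⟨n, rfl⟩ := Nat.exists_eq_add_of_le' h1
  have h := el_eq (tw_ok ⟨n, by omega⟩)
  dsimp only at h
  rwa [el_append, el_append, el_rpt, ← ev_vG, ← ev_vG] at h

theorem w20_ten : el W20 ^ 10 = neg := by
  have h5 : eqw (rpt 10 W20) nw = true := by decide +kernel
  have h6 := el_eq h5
  rwa [el_rpt, el_nw] at h6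

theorem tr_conj_eq {a b c : Γ} (h : c * a = b * c) : LinearMap.trace k V (R a) = LinearMap.trace k V (R b) := by
  have h1 : a = c⁻¹ * (b * c) := by rw [← h, inv_mul_cancel_left]
  rw [h1, map_mul, LinearMap.trace_mul_comm, ← map_mul, mul_assoc, mul_inv_cancel, mul_one]

theorem tr_neg (hneg : R neg = -1) (a : Γ) : LinearMap.trace k V (R (neg * a)) = -LinearMap.trace k V (R a) := by
  rw [map_mul, hneg, neg_mul, one_mul, map_neg]

/-- elements of order 4 have trace 0 -/
theorem tr_four (h2 : (2 : k) ≠ 0) (hneg : R neg = -1) : tw vG R [2, 2] = 0 := by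
  have h1 : eqw (WN ++ ([2, 2] : List ℕ).flatMap LW) (nw ++ (([2, 2] : List ℕ).flatMap LW ++ WN)) = true := by
    decide +kernel
  have h3 := el_eq h1
  rw [el_append, el_append, el_append, el_nw, ← ev_vG, ← mul_assoc] at h3
  have h4 := tr_conj_eq (R := R) h3
  rw [tr_neg hneg] at h4
  have h5 : (2 : k) * tw vG R [2, 2] = 0 := by
    have h6 : tw vG R [2, 2] = -tw vG R [2, 2] := h4
    linear_combination h6
  exact (mul_eq_zero.1 h5).resolve_left h2

/-- a common eigenvector -/
theorem exists_vec (hω : IsPrimitiveRoot ω 3) (h2 : (2 : k) ≠ 0) {i : k} (hi : i * i = -1) (hneg : R neg = -1)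
    (hE : op vG R [0] ≠ 1) (hn : finrank k V = 10) : ∃ (v : V) (c : k), v ≠ 0 ∧ c * c = -1 ∧ v ∈ Wt vG R 1 1 ∧
      op vG R [2, 2] v = c • v := by
  have h3 : (3 : k) ≠ 0 := three_ne hω
  have hsat := sat_G
  obtain ⟨f, a, α, β, ε, hε, hεs, hV, hCp, hCm, -⟩ := hsat.basic (R := R) hω h2 hE (by omega)
  have hcp := cp_ne_two hsat hω h2 (tr_four h2 hneg)
  have hCm2 : finrank k (Cm vG R) = 2 := by omega
  have hne : Cm vG R ≠ ⊥ := by
    intro h
    rw [h, finrank_bot] at hCm2
    omega
  obtain ⟨w, hw, hw0⟩ := (Submodule.ne_bot_iff _).1 hne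
  obtain ⟨hw1, hw2⟩ := Submodule.mem_inf.1 hw
  rw [End.mem_eigenspace_iff, neg_smul, one_smul] at hw2
  have hyy : op vG R [2, 2] (op vG R [2, 2] w) = -w := by
    rw [← Module.End.mul_apply, ← op_append]
    exact hw2
  have hmem : op vG R [2, 2] w ∈ Wt vG R 1 1 :=
    mem_of_comm (hsat.isProj_pE (R := R) hω) (hsat.comm_word h3 [2, 2] (by decide)) hw1
  by_cases h0 : op vG R [2, 2] w + i • w = 0
  · refine ⟨w, -i, hw0, by linear_combination hi, hw1, ?_⟩
    rw [neg_smul]
    exact eq_neg_of_add_eq_zero_left h0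
  · refine ⟨_, i, h0, hi, Submodule.add_mem _ hmem (Submodule.smul_mem _ _ hw1), ?_⟩
    rw [map_add, map_smul, hyy, smul_add, smul_smul, hi, neg_smul, one_smul, add_comm]

/-- **the elements of order 20 have trace 0** -/
theorem tr_twenty (hω : IsPrimitiveRoot ω 3) (h2 : (2 : k) ≠ 0) {i : k} (hi : i * i = -1) (hneg : R neg = -1)
    (hE : op vG R [0] ≠ 1) (hn : finrank k V = 10) : LinearMap.trace k V (R (el W20)) = 0 := by
  have h3 : (3 : k) ≠ 0 := three_ne hω
  have hsat := sat_G
  obtain ⟨v, c, hv0, hc, hv, hvc⟩ := exists_vec hω h2 hi hneg hE hn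
  simp only [mem_Wt, one_smul] at hv
  obtain ⟨hv1, hv2⟩ := hv
  have hc0 : c ≠ 0 := by
    rintro rfl
    rw [mul_zero] at hc
    exact one_ne_zero (neg_eq_zero.1 hc.symm)
  have h4 : ((4 : ℕ) : k) ≠ 0 := four_ne h2
  have hc4 : c ^ 4 = 1 := by linear_combination (c * c - 1) * hc
  -- the projection
  let Y : End k V := op vG R [2, 2]
  have hY4 : Y ^ 4 = 1 := hsat.pow_four
  let Q : End k V := sp 4 c Y 1 * pE vG R
  have hpE := hsat.isProj_pE (R := R) hω
  have hQv : Q v = v := by
    change sp 4 c Y 1 (pE vG R v) = v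
    rw [hpE.map_id v (by simp only [mem_Wt, one_smul]; exact ⟨hv1, hv2⟩)]
    refine (isProj_sp h4 hc0 hc4 hY4 1).map_id v ?_
    rw [End.mem_eigenspace_iff, pow_one]
    exact hvc
  have hQ0 : ∀ x, Q (op vG R [0] x) = Q x := by
    intro x
    change sp 4 c Y 1 (pE vG R (op vG R [0] x)) = sp 4 c Y 1 (pE vG R x)
    rw [← Module.End.mul_apply (pE vG R), hsat.pE_zero]
  have hQ1 : ∀ x, Q (op vG R [1] x) = Q x := by
    intro x
    change sp 4 c Y 1 (pE vG R (op vG R [1] x)) = sp 4 c Y 1 (pE vG R x)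
    rw [← Module.End.mul_apply (pE vG R), hsat.pE_one]
  have hQY : ∀ x, Q (Y x) = c • Q x := by
    intro x
    have e1 : Q * Y = c • Q := by
      change sp 4 c Y 1 * pE vG R * Y = c • (sp 4 c Y 1 * pE vG R)
      have e2 : pE vG R * Y = Y * pE vG R := (hsat.comm_word h3 [2, 2] (by decide)).symm
      have e3 : Commute Y (sp 4 c Y 1) := by
        unfold sp
        exact comm_av ((Commute.refl Y).smul_right _)
      rw [mul_assoc, e2, ← mul_assoc, ← e3.eq, mul_sp hc0 hc4 hY4, pow_one, smul_mul_assoc]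
    rw [← Module.End.mul_apply, e1, LinearMap.smul_apply]
  clear_value Q
  -- words
  have hE0 : ∀ (n : ℕ) (x : V), Q (op vG R (List.replicate n 0) x) = Q x := by
    intro n
    induction n with
    | zero => intro x; rw [List.replicate_zero, op_nil]; rfl
    | succ n ih => intro x; rw [List.replicate_succ, op_cons, Module.End.mul_apply, hQ0, ih]
  have hE1 : ∀ (n : ℕ) (x : V), Q (op vG R (List.replicate n 1) x) = Q x := by
    intro n
    induction n with
    | zero => intro x; rw [List.replicate_zero, op_nil]; rfl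
    | succ n ih => intro x; rw [List.replicate_succ, op_cons, Module.End.mul_apply, hQ1, ih]
  have hV0 : ∀ n : ℕ, op vG R (List.replicate n 0) v = v := by
    intro n
    induction n with
    | zero => rw [List.replicate_zero, op_nil]; rfl
    | succ n ih => rw [List.replicate_succ, op_cons, Module.End.mul_apply, ih, hv1]
  have hV1 : ∀ n : ℕ, op vG R (List.replicate n 1) v = v := by
    intro n
    induction n with
    | zero => rw [List.replicate_zero, op_nil]; rfl
    | succ n ih => rw [List.replicate_succ, op_cons, Module.End.mul_apply, ih, hv2]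
  have hb2 : ∀ a b : ℕ, op vG R (bw a b 2) v = c • v := by
    intro a b
    unfold bw
    rw [op_append, op_append, Module.End.mul_apply, Module.End.mul_apply]
    change op vG R (List.replicate a 0) (op vG R (List.replicate b 1) (op vG R [2, 2] v)) = c • v
    rw [hvc, map_smul, map_smul, hV1, hV0]
  have hb6 : ∀ (a b : ℕ) (x : V), Q (op vG R (bw a b 6) x) = -c • Q x := by
    intro a b x
    unfold bw
    rw [op_append, op_append, Module.End.mul_apply, Module.End.mul_apply, hE0, hE1]
    have e6 : (List.replicate 6 2 : List ℕ) = [2, 2] ++ ([2, 2] ++ [2, 2]) := rfl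
    rw [e6, op_append, op_append, Module.End.mul_apply, Module.End.mul_apply]
    change Q (Y (Y (Y x))) = _
    rw [hQY, hQY, hQY, smul_smul, smul_smul]
    congr 1
    linear_combination c * hc
  -- the key: `Q` kills `g^m v`
  let T : End k V := R (el W20)
  have hTm : ∀ m : ℕ, R (el W20 ^ m) = T ^ m := fun m => map_pow R _ m
  have hT10 : T ^ 10 = -1 := by rw [← hTm, w20_ten, hneg]
  have hkill : ∀ m : ℕ, 1 ≤ m → m ≤ 9 → Q ((T ^ m) v) = 0 := by
    intro m hm1 hm9
    have e1 := congrArg R (tw_rel m hm1 hm9)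
    rw [map_mul, map_mul, hTm] at e1
    have e2 := congrArg (fun A : End k V => Q (A v)) e1
    simp only [Module.End.mul_apply] at e2
    change Q ((T ^ m) (op vG R (bw _ _ 2) v)) = Q (op vG R (bw _ _ 6) ((T ^ m) v)) at e2
    rw [hb2, map_smul, map_smul, hb6] at e2
    have e3 : (2 * c) • Q ((T ^ m) v) = 0 := by
      rw [two_mul, add_smul]
      nth_rewrite 1 [e2]
      rw [neg_smul, neg_add_cancel]
    exact (smul_eq_zero.1 e3).resolve_left (mul_ne_zero h2 hc0)
  -- linear independence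
  have hli : LinearIndependent k (fun m : Fin 10 => (T ^ (m : ℕ)) v) := by
    rw [Fintype.linearIndependent_iff]
    intro g hg l
    -- apply `Q ∘ T ^ (10 - l)`
    have e1 := congrArg (fun x => Q ((T ^ (10 - (l : ℕ))) x)) hg
    simp only [map_sum, map_smul, map_zero] at e1
    have e2 : ∀ m : Fin 10, m ≠ l → Q ((T ^ (10 - (l : ℕ))) ((T ^ (m : ℕ)) v)) = 0 := by
      intro m hml
      rw [← Module.End.mul_apply (T ^ (10 - (l : ℕ))), ← pow_add]
      have hm := m.2
      have hl := l.2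
      have hne : (m : ℕ) ≠ l := fun h => hml (Fin.ext h)
      rcases Nat.lt_or_ge (m : ℕ) l with hlt | hge
      · exact hkill _ (by omega) (by omega)
      · have e3 : 10 - (l : ℕ) + m = 10 + ((m : ℕ) - l) := by omega
        rw [e3, pow_add, hT10, neg_mul, one_mul, LinearMap.neg_apply, map_neg, hkill _ (by omega) (by omega),
          neg_zero]
    rw [Finset.sum_eq_single l (fun m _ hml => by rw [e2 m hml, smul_zero]) (fun h => absurd (Finset.mem_univ l) h)] at e1
    have e4 : (T ^ (10 - (l : ℕ))) ((T ^ (l : ℕ)) v) = -v := by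
      rw [← Module.End.mul_apply, ← pow_add, Nat.sub_add_cancel l.2.le, hT10]
      rfl
    rw [e4, map_neg, hQv, smul_neg, neg_eq_zero] at e1
    exact (smul_eq_zero.1 e1).resolve_right hv0
  let b : Module.Basis (Fin 10) k V := basisOfLinearIndependentOfCardEqFinrank hli (by rw [Fintype.card_fin, hn])
  have hb : ∀ m : Fin 10, b m = (T ^ (m : ℕ)) v := fun m => by
    rw [coe_basisOfLinearIndependentOfCardEqFinrank]
  rw [LinearMap.trace_eq_matrix_trace k b, Matrix.trace]
  refine Finset.sum_eq_zero fun m _ => ?_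
  rw [Matrix.diag_apply, LinearMap.toMatrix_apply]
  have e5 : T (b m) = (T ^ ((m : ℕ) + 1)) v := by rw [hb, pow_succ', Module.End.mul_apply]
  change b.repr (T (b m)) m = 0
  rw [e5]
  rcases Nat.lt_or_ge ((m : ℕ) + 1) 10 with hlt | hge
  · have e6 : (T ^ ((m : ℕ) + 1)) v = b ⟨(m : ℕ) + 1, hlt⟩ := by rw [hb]
    rw [e6, Module.Basis.repr_self, Finsupp.single_eq_of_ne]
    intro h
    have := congrArg Fin.val h
    simp at this
  · have e7 : (m : ℕ) + 1 = 10 := by omega
    have e8 : (T ^ 10) v = -b 0 := by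
      rw [hT10, hb]
      simp
    rw [e7, e8, map_neg, Module.Basis.repr_self, Finsupp.neg_apply, Finsupp.single_eq_of_ne, neg_zero]
    intro h
    have := congrArg Fin.val h
    simp at this
    omega

end Cfsg.Agent.H24.M12
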